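import Groth.Agent.ExtUnipLib.Step
import Groth.Agent.TakeuchiLib.Main
import Groth.Agent.GrpSchLib.HopfGalois

/-!
# Extensions of diagonalizable groups by unipotent groups split over algebraically closed fields
-/

universe u

set_option autoImplicit false
set_option backward.isDefEq.respectTransparency false
set_option backward.isDefEq.respectTransparency.types false

open TensorProduct WithConv

namespace Groth.Agent.ExtUnipLib

variable {k : Type u} [Field k] {A : Type u} [CommRing A] [HopfAlgebra k A]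

/-- The map induced on quotients by a map of bialgebras. -/
noncomputable def quotMap {A' : Type u} [CommRing A'] [HopfAlgebra k A'] (f : A →ₐc[k] A') (J : Ideal A)
    (J' : Ideal A') [J.IsHopfIdeal k] [J'.IsHopfIdeal k] (h : ∀ a ∈ J, f a ∈ J') : (A ⧸ J) →ₐc[k] A' ⧸ J' :=
  BialgHom.ofAlgHom
    (Ideal.Quotient.liftₐ J ((Ideal.Quotient.mkₐ k J').comp (f : A →ₐ[k] A')) fun a ha =>
      Ideal.Quotient.eq_zero_iff_mem.mpr (h a ha))
    (Ideal.Quotient.algHom_ext k (AlgHom.ext fun a =>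
      CoalgHomClass.counit_comp_apply ((Bialgebra.Quotient.mkBialgHom (R := k) J').comp f) a))
    (Ideal.Quotient.algHom_ext k (AlgHom.ext fun a => by
      refine Eq.trans ?_ (CoalgHomClass.map_comp_comul_apply ((Bialgebra.Quotient.mkBialgHom (R := k) J').comp f) a)
      show Algebra.TensorProduct.map _ _ (Coalgebra.comul (R := k) (Bialgebra.Quotient.mkBialgHom (R := k) J a)) = _
      rw [← CoalgHomClass.map_comp_comul_apply (Bialgebra.Quotient.mkBialgHom (R := k) J) a]
      induction Coalgebra.comul (R := k) a using TensorProduct.induction_on with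
      | zero => simp
      | tmul p q => rfl
      | add p q hp hq => simp only [map_add, hp, hq]))

variable [IsAlgClosed k] [Algebra.FiniteType k A] {M : Type u} [CommGroup M]

/-- An extension of a diagonalizable group by a unipotent group is trivial. -/
theorem exists_retraction (ψ : MonoidAlgebra k M →ₐc[k] A) (hψ : Function.Injective ψ) (J : Ideal A) [J.IsHopfIdeal k]
    (hJ : J = Ideal.map (ψ : MonoidAlgebra k M →+* A) (RingHom.ker (Bialgebra.counitAlgHom k (MonoidAlgebra k M))))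
    (hU : HopfRep.IsUnipotent k (A ⧸ J)) : ∃ r : A →ₐc[k] MonoidAlgebra k M, ∀ b, r (ψ b) = b := by
  classical
  haveI : IsNoetherianRing A := Algebra.FiniteType.isNoetherianRing k A
  let S : Set (Ideal A) := {I | I.IsHopfIdeal k ∧ ∀ b, ψ b ∈ I → b = 0}
  have hbot : (⊥ : Ideal A) ∈ S := by
    refine ⟨?_, fun b hb => hψ (((Submodule.mem_bot A).mp hb).trans (map_zero ψ).symm)⟩
    have h := TakeuchiLib.isHopfIdeal_ker (BialgHom.id k A) (fun a ha => by
      show HopfAlgebra.antipode k a = 0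
      rw [show a = 0 from ha, map_zero])
    rwa [show RingHom.ker ((BialgHom.id k A : A →ₐc[k] A) : A →ₐ[k] A) = ⊥ from
      (RingHom.injective_iff_ker_eq_bot _).mp fun _ _ h => h] at h
  obtain ⟨I, ⟨hIH, hIψ⟩, hmax⟩ := set_has_maximal_iff_noetherian.mpr (inferInstance : IsNoetherian A A) S ⟨⊥, hbot⟩
  haveI := hIH
  let π : A →ₐc[k] A ⧸ I := Bialgebra.Quotient.mkBialgHom (R := k) I
  let ψ' : MonoidAlgebra k M →ₐc[k] A ⧸ I := π.comp ψ
  have hψ' : Function.Injective ψ' :=
    (injective_iff_map_eq_zero ψ').mpr fun b hb => hIψ b (Ideal.Quotient.eq_zero_iff_mem.mp hb)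
  by_cases hs : Function.Surjective ψ'
  · let e := BialgEquiv.ofBijective ψ' ⟨hψ', hs⟩
    exact ⟨(e.symm : A ⧸ I →ₐc[k] MonoidAlgebra k M).comp π, fun b => e.toEquiv.symm_apply_apply b⟩
  let J' : Ideal (A ⧸ I) :=
    Ideal.map (ψ' : MonoidAlgebra k M →+* A ⧸ I) (RingHom.ker (Bialgebra.counitAlgHom k (MonoidAlgebra k M)))
  haveI : J'.IsHopfIdeal k := TakeuchiLib.isHopfIdeal_map ψ'
  have hle : ∀ a ∈ J, π a ∈ J' := by
    intro a ha
    rw [hJ] at ha
    refine (Ideal.map_le_iff_le_comap.mpr (fun c hc => ?_) : _ ≤ J'.comap (π : A →+* A ⧸ I)) ha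
    exact Ideal.mem_map_of_mem (ψ' : MonoidAlgebra k M →+* A ⧸ I) hc
  have hU' : HopfRep.IsUnipotent k ((A ⧸ I) ⧸ J') :=
    TakeuchiLib.isUnipotent_of_surjective (quotMap π J J' hle) (fun z => by
      obtain ⟨z, rfl⟩ := Ideal.Quotient.mk_surjective z
      obtain ⟨a, rfl⟩ := Ideal.Quotient.mk_surjective z
      exact ⟨Ideal.Quotient.mk J a, rfl⟩) hU
  obtain ⟨I', hI'H, hI'0, hI'ψ⟩ := exists_ideal ψ' hψ' (J := J') rfl hU' hs
  haveI := hI'H
  let P : A →ₐc[k] (A ⧸ I) ⧸ I' := (Bialgebra.Quotient.mkBialgHom (R := k) I').comp π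
  have hI₂ : RingHom.ker (P : A →ₐ[k] (A ⧸ I) ⧸ I') ∈ S := by
    refine ⟨TakeuchiLib.isHopfIdeal_ker P fun a ha => ?_, fun b hb => hI'ψ b (Ideal.Quotient.eq_zero_iff_mem.mp hb)⟩
    show Ideal.Quotient.mk I' (π (HopfAlgebra.antipode k a)) = 0
    rw [← GrpSchLib.HopfGalois.antipode_bialgHom π a]
    exact Ideal.Quotient.eq_zero_iff_mem.mpr (Ideal.IsHopfIdeal.antipode_mem (R := k) (Ideal.Quotient.eq_zero_iff_mem.mp ha))
  refine absurd (lt_of_le_not_ge ?_ fun h => hI'0 ?_) (hmax _ hI₂)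
  · intro a ha
    show Ideal.Quotient.mk I' (π a) = 0
    rw [show π a = 0 from Ideal.Quotient.eq_zero_iff_mem.mpr ha, map_zero]
  · refine (Submodule.eq_bot_iff _).mpr fun z hz => ?_
    obtain ⟨a, rfl⟩ := Ideal.Quotient.mk_surjective z
    exact Ideal.Quotient.eq_zero_iff_mem.mpr (h (Ideal.Quotient.eq_zero_iff_mem.mpr hz : P a = 0))

end Groth.Agent.ExtUnipLib
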