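import Groth.Agent.ExtUnipLib.Lift

/-!
# Retractions are conjugate by points of the unipotent kernel
-/

universe u

set_option autoImplicit false
set_option backward.isDefEq.respectTransparency false
set_option backward.isDefEq.respectTransparency.types false

open TensorProduct WithConv Polynomial

namespace Groth.Agent.ExtUnipLib

open LieHopf (dlin Lie)
open DynLib (post post_apply)
open scoped DynLib

attribute [-instance] AlgHom.convGroup AlgHom.convInv

variable {k : Type u} [Field k] {M : Type u} [CommGroup M] {A : Type u} [CommRing A] [HopfAlgebra k A]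

/-- A map of bialgebras on a Hopf quotient. -/
noncomputable def liftQuot {T : Type u} [CommRing T] [HopfAlgebra k T] (f : A →ₐc[k] T) (I : Ideal A) [I.IsHopfIdeal k]
    (h : ∀ a ∈ I, f a = 0) : A ⧸ I →ₐc[k] T :=
  BialgHom.ofAlgHom (Ideal.Quotient.liftₐ I (f : A →ₐ[k] T) h)
    (Ideal.Quotient.algHom_ext k (AlgHom.ext fun a => CoalgHomClass.counit_comp_apply f a))
    (Ideal.Quotient.algHom_ext k (AlgHom.ext fun a => by
      refine Eq.trans ?_ (CoalgHomClass.map_comp_comul_apply f a)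
      show Algebra.TensorProduct.map _ _ (Coalgebra.comul (R := k) (Bialgebra.Quotient.mkBialgHom (R := k) I a)) = _
      rw [← CoalgHomClass.map_comp_comul_apply (Bialgebra.Quotient.mkBialgHom (R := k) I) a]
      induction Coalgebra.comul (R := k) a using TensorProduct.induction_on with
      | zero => simp
      | tmul p q => rfl
      | add p q hp hq => simp only [map_add, hp, hq]))

theorem comul_mk_skew (ψ : MonoidAlgebra k M →ₐc[k] A) {J : Ideal A} [J.IsHopfIdeal k]
    (hJ : J = Ideal.map (ψ : MonoidAlgebra k M →+* A) (RingHom.ker (Bialgebra.counitAlgHom k (MonoidAlgebra k M))))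
    {χ : M} {x : A} (hx : Coalgebra.comul (R := k) x = x ⊗ₜ[k] gl ψ χ + (1 : A) ⊗ₜ[k] x) :
    Coalgebra.comul (R := k) (Ideal.Quotient.mkₐ k J x) =
      Ideal.Quotient.mkₐ k J x ⊗ₜ[k] (1 : A ⧸ J) + (1 : A ⧸ J) ⊗ₜ[k] Ideal.Quotient.mkₐ k J x := by
  show Coalgebra.comul (R := k) (Bialgebra.Quotient.mkBialgHom (R := k) J x) = _
  rw [← CoalgHomClass.map_comp_comul_apply, hx, map_add, TensorProduct.map_tmul, TensorProduct.map_tmul]
  show Ideal.Quotient.mkₐ k J x ⊗ₜ[k] Ideal.Quotient.mkₐ k J (gl ψ χ) +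
    Ideal.Quotient.mkₐ k J 1 ⊗ₜ[k] Ideal.Quotient.mkₐ k J x = _
  rw [gl, mkQ_gl ψ hJ, show Coalgebra.counit (R := k) (MonoidAlgebra.single χ (1 : k)) = (1 : k) by simp, map_one,
    map_one]

theorem isHopfIdeal_span_skew (ψ : MonoidAlgebra k M →ₐc[k] A) {χ : M} {x : A}
    (hx : Coalgebra.comul (R := k) x = x ⊗ₜ[k] gl ψ χ + (1 : A) ⊗ₜ[k] x) :
    (Ideal.span ({x} : Set A)).IsHopfIdeal k := by
  have hε := counit_skew ψ hx
  have hSx : HopfAlgebra.antipode k x = -(x * gl ψ χ⁻¹) := by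
    have h := HopfAlgebra.mul_antipode_rTensor_comul_apply (R := k) x
    rw [hx, map_add, map_add, LinearMap.rTensor_tmul, LinearMap.rTensor_tmul, LinearMap.mul'_apply,
      LinearMap.mul'_apply, HopfAlgebra.antipode_one, one_mul, hε, map_zero] at h
    have h2 : HopfAlgebra.antipode k x * gl ψ χ = -x := eq_neg_of_add_eq_zero_left h
    calc HopfAlgebra.antipode k x = HopfAlgebra.antipode k x * (gl ψ χ * gl ψ χ⁻¹) := by
          rw [mul_comm (gl ψ χ), gl_inv_mul, mul_one]
      _ = -(x * gl ψ χ⁻¹) := by rw [← mul_assoc, h2, neg_mul]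
  refine GrpSchLib.isHopfIdeal_span_singleton hε ?_ ?_
  · rw [hSx]
    exact neg_mem (Ideal.mul_mem_right _ _ (Ideal.mem_span_singleton_self x))
  · have h0 : Ideal.Quotient.mkₐ k (Ideal.span ({x} : Set A)) x = 0 :=
      Ideal.Quotient.eq_zero_iff_mem.mpr (Ideal.mem_span_singleton_self x)
    rw [hx, map_add, Algebra.TensorProduct.map_tmul, Algebra.TensorProduct.map_tmul, h0, zero_tmul, tmul_zero, add_zero]

variable [IsAlgClosed k] [Algebra.FiniteType k A]

theorem exists_good (ψ : MonoidAlgebra k M →ₐc[k] A) (r : A →ₐc[k] MonoidAlgebra k M) (hr : ∀ b, r (ψ b) = b)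
    {J : Ideal A} [J.IsHopfIdeal k]
    (hJ : J = Ideal.map (ψ : MonoidAlgebra k M →+* A) (RingHom.ker (Bialgebra.counitAlgHom k (MonoidAlgebra k M))))
    (hU : HopfRep.IsUnipotent k (A ⧸ J)) (hns : ¬ Function.Surjective ψ) :
    ∃ (χ : M) (x : A), x ∉ Set.range ψ ∧ Coalgebra.comul (R := k) x = x ⊗ₜ[k] gl ψ χ + (1 : A) ⊗ₜ[k] x ∧
      (_root_.IsReduced (A ⧸ J) → (Ideal.span ({Ideal.Quotient.mkₐ k J x} : Set (A ⧸ J))).IsRadical) := by
  classical
  have hψ : Function.Injective ψ := Function.LeftInverse.injective hr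
  by_cases hred : _root_.IsReduced (A ⧸ J)
  swap
  · obtain ⟨χ, x, hxR, hx⟩ := exists_skew ψ hψ J hJ hU hns
    exact ⟨χ, x, hxR, hx, fun h => absurd h hred⟩
  haveI := hred
  haveI : Algebra.FiniteType k (A ⧸ J) :=
    Algebra.FiniteType.of_surjective (Ideal.Quotient.mkₐ k _) (Ideal.Quotient.mkₐ_surjective k _)
  rcases dichotomy (k := k) hU with ⟨w, hw, D, hD⟩ | hall
  · obtain ⟨χ, x, hx, hDx⟩ := exists_lift ψ r hr hJ hw D hD
    refine ⟨χ, x, ?_, hx, fun _ => isRadical_span_of_derivative (comul_mk_skew ψ hJ hx) D hDx⟩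
    rintro ⟨b, rfl⟩
    refine hDx ?_
    rw [mkQ_gl ψ hJ, Algebra.algebraMap_eq_smul_one, map_smul, LieHopf.dlin_one, smul_zero]
  · obtain ⟨χ, x, hxR, hx⟩ := exists_skew ψ hψ J hJ hU hns
    exact ⟨χ, x, hxR, hx, fun _ => hall _ (comul_mk_skew ψ hJ hx)⟩

theorem coeff_one_ne_zero {Q : Type u} [CommRing Q] [Algebra k Q] [_root_.IsReduced Q] (p : ℕ) [ExpChar k p] {x : Q}
    {f : k[X]} (hfm : f.Monic) (hd : 0 < f.natDegree) (hf : aeval x f = 0)
    (hind : ∀ P : k[X], P.natDegree < f.natDegree → aeval x P = 0 → P = 0)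
    (hadd : ∀ j, f.coeff j ≠ 0 → ∃ e, j = p ^ e) : f.coeff 1 ≠ 0 := by
  intro h1
  have hdiv : ∀ j, f.coeff j ≠ 0 → p ∣ j ∧ 1 < p := fun j hj => by
    obtain ⟨e, rfl⟩ := hadd j hj
    cases e with
    | zero => exact absurd h1 (by simpa using hj)
    | succ e =>
      refine ⟨Dvd.intro_left (p ^ e) (pow_succ p e).symm, ?_⟩
      rcases expChar_is_prime_or_one k p with hp | hp
      · exact hp.one_lt
      · subst hp; simp [h1] at hj
  have hd0 : f.coeff f.natDegree ≠ 0 := by rw [hfm.coeff_natDegree]; exact one_ne_zero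
  have hp1 : 1 < p := (hdiv _ hd0).2
  choose b hb using fun j => IsAlgClosed.exists_pow_nat_eq (f.coeff j) (show 0 < p by omega)
  let g : k[X] := ∑ j ∈ Finset.range (f.natDegree + 1), C (b j) * X ^ (j / p)
  haveI : ExpChar k[X] p := expChar_of_injective_ringHom (C_injective : Function.Injective (C : k →+* k[X])) p
  have hgp : g ^ p = f := by
    conv_rhs => rw [f.as_sum_range_C_mul_X_pow]
    rw [sum_pow_char]
    refine Finset.sum_congr rfl fun j _ => ?_
    rw [mul_pow, ← C_pow, hb, ← pow_mul]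
    rcases eq_or_ne (f.coeff j) 0 with h | h
    · rw [h, C_0, zero_mul, zero_mul]
    · rw [Nat.div_mul_cancel (hdiv j h).1]
  have hgd : g.natDegree < f.natDegree := by
    refine lt_of_le_of_lt (natDegree_sum_le_of_forall_le _ _ fun j hj => ?_) (Nat.div_lt_self hd hp1)
    refine (natDegree_C_mul_X_pow_le _ _).trans (Nat.div_le_div_right ?_)
    have := Finset.mem_range.mp hj
    omega
  have hg : g = 0 := hind g hgd (IsNilpotent.eq_zero ⟨p, by rw [← map_pow, hgp, hf]⟩)
  rw [hg, zero_pow (by omega)] at hgp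
  exact hfm.ne_zero hgp.symm

theorem value_skew (ψ : MonoidAlgebra k M →ₐc[k] A) (r : A →ₐc[k] MonoidAlgebra k M) (hr : ∀ b, r (ψ b) = b)
    {χ : M} {x : A} (hx : Coalgebra.comul (R := k) x = x ⊗ₜ[k] gl ψ χ + (1 : A) ⊗ₜ[k] x) :
    ∃ c : k, r x = c • (MonoidAlgebra.single χ (1 : k) - 1) := by
  refine eq_smul_of_skew ?_
  rw [← CoalgHomClass.map_comp_comul_apply r, hx, map_add, TensorProduct.map_tmul, TensorProduct.map_tmul]
  show r x ⊗ₜ[k] r (gl ψ χ) + r 1 ⊗ₜ[k] r x = _
  rw [gl, hr, map_one]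

/-- One step of the conjugation. -/
theorem exists_conj_step [Algebra.FiniteType k (MonoidAlgebra k M)] (ψ : MonoidAlgebra k M →ₐc[k] A)
    (r₁ r₂ : A →ₐc[k] MonoidAlgebra k M)
    (hr₁ : ∀ b, r₁ (ψ b) = b) (hr₂ : ∀ b, r₂ (ψ b) = b) {J : Ideal A} [J.IsHopfIdeal k]
    (hJ : J = Ideal.map (ψ : MonoidAlgebra k M →+* A) (RingHom.ker (Bialgebra.counitAlgHom k (MonoidAlgebra k M))))
    (hU : HopfRep.IsUnipotent k (A ⧸ J)) (hsm : _root_.IsReduced (MonoidAlgebra k M) ∨ J.IsRadical)
    (hns : ¬ Function.Surjective ψ) :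
    ∃ (u : WithConv (A →ₐ[k] k)) (I : Ideal A), I.IsHopfIdeal k ∧ I ≠ ⊥ ∧ (∀ a ∈ J, u.ofConv a = 0) ∧
      (∀ a ∈ I, r₂ a = 0) ∧ (∀ a ∈ I, r₁ (ad u a) = 0) ∧
      (_root_.IsReduced (MonoidAlgebra k M) ∨ (I ⊔ J).IsRadical) := by
  classical
  have hψ : Function.Injective ψ := Function.LeftInverse.injective hr₁
  haveI : Algebra.FiniteType k (A ⧸ J) :=
    Algebra.FiniteType.of_surjective (Ideal.Quotient.mkₐ k _) (Ideal.Quotient.mkₐ_surjective k _)
  obtain ⟨χ, x₀, hx₀R, hx₀, hrad⟩ := exists_good ψ r₁ hr₁ hJ hU hns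
  obtain ⟨x, hxR, hx, hnorm, hqx⟩ := exists_normalized ψ hψ hJ hx₀R hx₀
  let q := Ideal.Quotient.mkₐ k J
  obtain ⟨l₁, hl₁⟩ := value_skew ψ r₁ hr₁ hx
  obtain ⟨l₂, hl₂⟩ := value_skew ψ r₂ hr₂ hx
  have hqgl : ∀ m, q (gl ψ m) = 1 := fun m => by
    rw [← map_one q]
    exact Ideal.Quotient.eq.mpr (hJ ▸ gl_sub_one_mem ψ m)
  have hprim := comul_mk_skew ψ hJ hx
  let c : k := if χ = 1 then 0 else l₂ - l₁
  have hroot : ∀ P : k[X], aeval (q x) P = 0 → P.eval c = 0 := by
    intro P hP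
    by_cases hP0 : P = 0
    · rw [hP0, eval_zero]
    by_cases hχ : χ = 1
    · have h := congrArg (Bialgebra.counitAlgHom k (A ⧸ J)) hP
      rw [← Polynomial.aeval_algHom_apply, map_zero,
        show Bialgebra.counitAlgHom k (A ⧸ J) (q x) = 0 from
          (CoalgHomClass.counit_comp_apply (Bialgebra.Quotient.mkBialgHom (R := k) J) x).trans (counit_skew ψ hx),
        ← Polynomial.coeff_zero_eq_aeval_zero] at h
      rw [show c = 0 from if_pos hχ, ← coeff_zero_eq_eval_zero]
      exact h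
    have hint : IsIntegral k (q x) := IsAlgebraic.isIntegral ⟨P, hP0, hP⟩
    haveI : Nontrivial (A ⧸ J) := (Bialgebra.counitAlgHom k (A ⧸ J)).toRingHom.domain_nontrivial
    haveI : Nontrivial (MonoidAlgebra k M) :=
      (Bialgebra.counitAlgHom k (MonoidAlgebra k M)).toRingHom.domain_nontrivial
    let f := minpoly k (q x)
    have hfm : f.Monic := minpoly.monic hint
    have hf : aeval (q x) f = 0 := minpoly.aeval k _
    have hd : 0 < f.natDegree := minpoly.natDegree_pos hint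
    have hind : ∀ P : k[X], P.natDegree < f.natDegree → aeval (q x) P = 0 → P = 0 := fun P hP hP' => by
      by_contra h
      exact absurd (Polynomial.natDegree_le_of_dvd (minpoly.dvd k _ hP') h) (not_le.mpr hP)
    have h0 : f.coeff 0 = 0 := by
      have h := congrArg (Bialgebra.counitAlgHom k (A ⧸ J)) hf
      rw [← Polynomial.aeval_algHom_apply, map_zero,
        show Bialgebra.counitAlgHom k (A ⧸ J) (q x) = 0 from
          (CoalgHomClass.counit_comp_apply (Bialgebra.Quotient.mkBialgHom (R := k) J) x).trans (counit_skew ψ hx),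
        ← Polynomial.coeff_zero_eq_aeval_zero] at h
      exact h
    let p := ringExpChar k
    have hadd : ∀ j, f.coeff j ≠ 0 → ∃ e, j = p ^ e := fun j hj =>
      exists_pow_of_choose p j (Nat.pos_of_ne_zero fun h => hj (h ▸ h0)) fun i hi hij =>
        (mul_eq_zero.mp (coeff_choose_eq_zero hprim f hf hind hi hij)).resolve_left hj
    have hcl : ∀ j, f.coeff j • MonoidAlgebra.single (χ ^ j) (1 : k) =
        f.coeff j • MonoidAlgebra.single (χ ^ f.natDegree) (1 : k) := by
      intro j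
      rcases eq_or_ne (f.coeff j) 0 with h | h
      · rw [h, zero_smul, zero_smul]
      · have h1 := coeff_gl_eq ψ hJ hx f hfm hf hind j
        rw [gl, gl, ← map_smul, ← map_smul] at h1
        have h2 := hψ h1
        rw [MonoidAlgebra.smul_single, MonoidAlgebra.smul_single] at h2
        have h3 : (χ⁻¹) ^ j = (χ⁻¹) ^ f.natDegree :=
          MonoidAlgebra.single_left_injective (R := k) (r := f.coeff j • (1 : k)) (by simp [h]) h2
        rw [inv_pow, inv_pow, inv_inj] at h3
        rw [h3]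
    have he : χ ^ f.natDegree ≠ 1 := by
      intro he
      rcases hsm with hB | hJr
      · haveI := hB
        obtain ⟨e, hde⟩ := hadd _ (by rw [hfm.coeff_natDegree]; exact one_ne_zero)
        exact hχ (isUnit_single_sub_one (k := k) (p := p) e hde he)
      · haveI : _root_.IsReduced (A ⧸ J) := (Ideal.isRadical_iff_quotient_reduced J).mp hJr
        have h1 := coeff_one_ne_zero p hfm hd hf hind hadd
        have h2 := hcl 1
        rw [MonoidAlgebra.smul_single, MonoidAlgebra.smul_single] at h2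
        have h3 := MonoidAlgebra.single_left_injective (R := k) (r := f.coeff 1 • (1 : k)) (by simp [h1]) h2
        rw [pow_one, he] at h3
        exact hχ h3
    have hl : ∀ (r : A →ₐc[k] MonoidAlgebra k M) (l : k), r x = l • (MonoidAlgebra.single χ (1 : k) - 1) → f.eval l = 0 := by
      intro r l hl
      have h1 : aeval (r x) f = 0 := by
        rw [show r x = (r : A →ₐ[k] MonoidAlgebra k M) x from rfl, Polynomial.aeval_algHom_apply, hnorm f hf, map_zero]
      rw [hl, smul_sub, sub_eq_add_neg, ← neg_smul, aeval_add p f hadd] at h1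
      have h2 : aeval (l • MonoidAlgebra.single χ (1 : k)) f =
          f.eval l • MonoidAlgebra.single (χ ^ f.natDegree) (1 : k) := by
        rw [aeval_eq_sum_range, eval_eq_sum_range, Finset.sum_smul]
        refine Finset.sum_congr rfl fun j _ => ?_
        rw [_root_.smul_pow, MonoidAlgebra.single_pow, one_pow, smul_comm, hcl, smul_smul, mul_comm]
      have h3 : aeval ((-l) • (1 : MonoidAlgebra k M)) f = (-f.eval l) • (1 : MonoidAlgebra k M) := by
        rw [← Algebra.algebraMap_eq_smul_one, Polynomial.aeval_algebraMap_apply_eq_algebraMap_eval,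
          Algebra.algebraMap_eq_smul_one]
        congr 1
        have h := aeval_add p f hadd l (-l)
        rw [add_neg_cancel, ← Polynomial.coeff_zero_eq_aeval_zero, h0] at h
        simp only [Polynomial.coe_aeval_eq_eval] at h
        exact eq_neg_of_add_eq_zero_right h.symm
      rw [h2, h3, neg_smul, ← sub_eq_add_neg, ← smul_sub] at h1
      rcases smul_eq_zero.mp h1 with h | h
      · exact h
      · exact absurd (MonoidAlgebra.single_left_injective (R := k) (r := (1 : k)) one_ne_zero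
          ((sub_eq_zero.mp h).trans MonoidAlgebra.one_def)) he
    have hc : f.eval c = 0 := by
      rw [show c = l₂ - l₁ from if_neg hχ]
      have h := aeval_add p f hadd (l₂ - l₁) l₁
      simp only [Polynomial.coe_aeval_eq_eval, sub_add_cancel, hl r₁ l₁ hl₁, hl r₂ l₂ hl₂, add_zero] at h
      exact h.symm
    obtain ⟨S, rfl⟩ := minpoly.dvd k (q x) hP
    rw [eval_mul, hc, zero_mul]
  obtain ⟨g, hg⟩ := exists_point_value hprim c hroot
  let u : WithConv (A →ₐ[k] k) := toConv (g.comp q)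
  have huJ : ∀ a ∈ J, u.ofConv a = 0 := fun a ha => by
    show g (q a) = 0
    rw [show q a = 0 from Ideal.Quotient.eq_zero_iff_mem.mpr ha, map_zero]
  have hug : ∀ m, u.ofConv (gl ψ m) = 1 := fun m => by
    show g (q (gl ψ m)) = 1
    rw [hqgl, map_one]
  have hcgl : Coalgebra.comul (R := k) (gl ψ χ) = gl ψ χ ⊗ₜ[k] gl ψ χ := comul_gl ψ χ
  let B := MonoidAlgebra k M
  have hval : r₁ (ad u x) = (c + l₁) • (MonoidAlgebra.single χ (1 : k) - 1) := by
    have h := AlgHom.congr_fun (congrArg WithConv.ofConv (toConv_comp_ad (r₁ : A →ₐ[k] B) u)) x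
    refine h.trans ?_
    have hig : ((pt B u)⁻¹).ofConv (gl ψ χ) = 1 := by
      have h1 := AlgHom.congr_fun (congrArg WithConv.ofConv (mul_inv_cancel (pt (A := A) B u))) (gl ψ χ)
      rw [mul_apply_groupLike _ _ hcgl, pt_apply, hug, map_one, one_mul, convOne_eq] at h1
      refine h1.trans ?_
      show algebraMap k B (Coalgebra.counit (R := k) (gl ψ χ)) = 1
      rw [counit_gl, map_one]
    have hix : ((pt B u)⁻¹).ofConv x = -algebraMap k B c := by
      have h1 := AlgHom.congr_fun (congrArg WithConv.ofConv (mul_inv_cancel (pt (A := A) B u))) x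
      rw [mul_apply_skew _ _ hx, pt_apply, hig, mul_one, show u.ofConv x = c from hg, convOne_eq] at h1
      refine eq_neg_of_add_eq_zero_right (h1.trans ?_)
      show algebraMap k B (Coalgebra.counit (R := k) x) = 0
      rw [counit_skew ψ hx, map_zero]
    rw [mul_apply_skew _ _ hx, mul_apply_skew _ _ hx, hig, hix, mul_one, pt_apply, show u.ofConv x = c from hg]
    show algebraMap k B c * r₁ (gl ψ χ) + r₁ x + -algebraMap k B c = _
    rw [hl₁, gl, hr₁, add_smul, ← Algebra.smul_def, Algebra.algebraMap_eq_smul_one, smul_sub c]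
    abel
  let x' := x - l₂ • (gl ψ χ - 1)
  have hx' : Coalgebra.comul (R := k) x' = x' ⊗ₜ[k] gl ψ χ + (1 : A) ⊗ₜ[k] x' := by
    show Coalgebra.comul (R := k) (x - l₂ • (gl ψ χ - 1)) = (x - l₂ • (gl ψ χ - 1)) ⊗ₜ[k] gl ψ χ + (1 : A) ⊗ₜ[k] (x - l₂ • (gl ψ χ - 1))
    rw [map_sub, map_smul, map_sub, hx, comul_gl, Bialgebra.comul_one, Algebra.TensorProduct.one_def,
      TensorProduct.sub_tmul, TensorProduct.tmul_sub, TensorProduct.tmul_smul, ← TensorProduct.smul_tmul',
      TensorProduct.sub_tmul, TensorProduct.tmul_sub]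
    module
  have hr₂x' : r₂ x' = 0 := by
    rw [map_sub, map_smul, map_sub, map_one, gl, hr₂, hl₂, sub_self]
  have hadψ : ad u (gl ψ χ) = gl ψ χ := by
    have h := AlgHom.congr_fun (congrArg WithConv.ofConv (toConv_comp_ad (AlgHom.id k A) u)) (gl ψ χ)
    refine h.trans ?_
    have hig : ((pt A u)⁻¹).ofConv (gl ψ χ) = 1 := by
      have h1 := AlgHom.congr_fun (congrArg WithConv.ofConv (mul_inv_cancel (pt (A := A) A u))) (gl ψ χ)
      rw [mul_apply_groupLike _ _ hcgl, pt_apply, hug, map_one, one_mul, convOne_eq] at h1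
      refine h1.trans ?_
      show algebraMap k A (Coalgebra.counit (R := k) (gl ψ χ)) = 1
      rw [counit_gl, map_one]
    rw [mul_apply_groupLike _ _ hcgl, mul_apply_groupLike _ _ hcgl, hig, pt_apply, hug, map_one, one_mul, mul_one]
    rfl
  have hr₁x' : r₁ (ad u x') = 0 := by
    simp only [x', map_sub, map_smul, map_one, hadψ, hval]
    rw [gl, hr₁, ← sub_smul]
    by_cases hχ : χ = 1
    · rw [hχ, ← MonoidAlgebra.one_def, sub_self, smul_zero]
    · rw [show c + l₁ - l₂ = 0 by rw [show c = l₂ - l₁ from if_neg hχ]; ring, zero_smul]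
  haveI := isHopfIdeal_span_skew ψ hx'
  refine ⟨u, Ideal.span {x'}, inferInstance, fun h => hxR ⟨l₂ • (MonoidAlgebra.single χ 1 - 1), ?_⟩, huJ,
    fun a ha => ?_, fun a ha => ?_, ?_⟩
  · rw [map_smul, map_sub, map_one, ← gl]
    exact (sub_eq_zero.mp (Ideal.span_singleton_eq_bot.mp h)).symm
  · obtain ⟨b, rfl⟩ := Ideal.mem_span_singleton'.mp ha
    rw [map_mul, hr₂x', mul_zero]
  · obtain ⟨b, rfl⟩ := Ideal.mem_span_singleton'.mp ha
    rw [map_mul, map_mul, hr₁x', mul_zero]
  · refine hsm.imp_right fun hJr => ?_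
    haveI : _root_.IsReduced (A ⧸ J) := (Ideal.isRadical_iff_quotient_reduced J).mp hJr
    have hqx' : q x' = q x₀ := by
      show q (x - l₂ • (gl ψ χ - 1)) = _
      rw [map_sub, map_smul, map_sub, hqgl, map_one, sub_self, smul_zero, sub_zero]
      exact hqx
    have e : Ideal.span ({x'} : Set A) ⊔ J = (Ideal.span ({q x₀} : Set (A ⧸ J))).comap (Ideal.Quotient.mk J) := by
      rw [← hqx', show Ideal.span ({q x'} : Set (A ⧸ J)) = (Ideal.span ({x'} : Set A)).map (Ideal.Quotient.mk J) by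
        rw [Ideal.map_span, Set.image_singleton]; rfl,
        Ideal.comap_map_of_surjective _ Ideal.Quotient.mk_surjective, ← RingHom.ker_eq_comap_bot, Ideal.mk_ker]
    rw [e]
    exact (hrad inferInstance).comap _

/-- Two retractions are conjugate by a point of the kernel. -/
theorem exists_conj [Algebra.FiniteType k (MonoidAlgebra k M)] (ψ : MonoidAlgebra k M →ₐc[k] A)
    (r' r'' : A →ₐc[k] MonoidAlgebra k M)
    (hr' : ∀ b, r' (ψ b) = b) (hr'' : ∀ b, r'' (ψ b) = b) (J : Ideal A) [J.IsHopfIdeal k]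
    (hJ : J = Ideal.map (ψ : MonoidAlgebra k M →+* A) (RingHom.ker (Bialgebra.counitAlgHom k (MonoidAlgebra k M))))
    (hU : HopfRep.IsUnipotent k (A ⧸ J)) (hsm : _root_.IsReduced (MonoidAlgebra k M) ∨ _root_.IsReduced (A ⧸ J)) :
    ∃ u : WithConv (A →ₐ[k] k), (∀ a ∈ J, u.ofConv a = 0) ∧ ∀ a, r'' a = r' (ad u a) := by
  classical
  haveI : IsNoetherianRing A := Algebra.FiniteType.isNoetherianRing k A
  let S : Set (Ideal A) := {I | I.IsHopfIdeal k ∧ (∀ a ∈ I, r'' a = 0) ∧
    (_root_.IsReduced (MonoidAlgebra k M) ∨ (I ⊔ J).IsRadical) ∧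
    ∃ u : WithConv (A →ₐ[k] k), (∀ a ∈ J, u.ofConv a = 0) ∧ ∀ a ∈ I, r' (ad u a) = 0}
  have hbot : (⊥ : Ideal A) ∈ S := by
    refine ⟨?_, fun a ha => by rw [(Submodule.mem_bot A).mp ha, map_zero],
      hsm.imp_right fun h => by rw [bot_sup_eq]; exact (Ideal.isRadical_iff_quotient_reduced J).mpr h,
      toConv (Bialgebra.counitAlgHom k A), fun a ha => ?_, fun a ha => by rw [(Submodule.mem_bot A).mp ha, map_zero, map_zero]⟩
    · have h := TakeuchiLib.isHopfIdeal_ker (BialgHom.id k A) (fun a ha => by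
        show HopfAlgebra.antipode k a = 0
        rw [show a = 0 from ha, map_zero])
      rwa [show RingHom.ker ((BialgHom.id k A : A →ₐc[k] A) : A →ₐ[k] A) = ⊥ from
        (RingHom.injective_iff_ker_eq_bot _).mp fun _ _ h => h] at h
    · show Bialgebra.counitAlgHom k A a = 0
      rw [hJ] at ha
      refine (Ideal.map_le_iff_le_comap.mpr (fun c hc => ?_) : _ ≤ RingHom.ker (Bialgebra.counitAlgHom k A).toRingHom) ha
      exact (CoalgHomClass.counit_comp_apply ψ c).trans hc
  obtain ⟨I, ⟨hIH, hI'', hIrad, u, huJ, hI'⟩, hmax⟩ :=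
    set_has_maximal_iff_noetherian.mpr (inferInstance : IsNoetherian A A) S ⟨⊥, hbot⟩
  haveI := hIH
  refine ⟨u, huJ, ?_⟩
  have hupre : ∀ v : WithConv (A →ₐ[k] k), (∀ a ∈ J, v.ofConv a = 0) → pre ψ v = 1 := fun v hv =>
    WithConv.ofConv_injective (AlgHom.ext fun c => by
      show v.ofConv (ψ c) = _
      have h := hv _ (hJ ▸ Ideal.mem_map_of_mem (ψ : MonoidAlgebra k M →+* A)
        (RingHom.mem_ker.mpr (show Bialgebra.counitAlgHom k _ (c - algebraMap k _ (Coalgebra.counit (R := k) c)) = 0 by simp)))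
      rw [map_sub, map_sub, sub_eq_zero] at h
      refine h.trans ?_
      rw [convOne_eq]
      show v.ofConv (ψ (algebraMap k _ _)) = algebraMap k k (Coalgebra.counit (R := k) c)
      rw [show ψ (algebraMap k (MonoidAlgebra k M) (Coalgebra.counit (R := k) c)) = algebraMap k A (Coalgebra.counit (R := k) c)
        from (ψ : MonoidAlgebra k M →ₐ[k] A).commutes _, AlgHom.commutes])
  have hadψ : ∀ b, ad u (ψ b) = ψ b := fun b => by
    have h : pre ψ (adC u) = pre ψ (toConv (AlgHom.id k A)) := by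
      rw [adC, map_mul, map_mul, map_inv, show pre ψ (pt A u) = pt (A := MonoidAlgebra k M) A (pre ψ u) from rfl,
        hupre u huJ, map_one, one_mul, inv_one, mul_one]
    exact AlgHom.congr_fun (congrArg WithConv.ofConv h) b
  let π : A →ₐc[k] A ⧸ I := Bialgebra.Quotient.mkBialgHom (R := k) I
  let ψ' : MonoidAlgebra k M →ₐc[k] A ⧸ I := π.comp ψ
  let r₁ : A ⧸ I →ₐc[k] MonoidAlgebra k M := liftQuot (r'.comp (ad u)) I hI'
  let r₂ : A ⧸ I →ₐc[k] MonoidAlgebra k M := liftQuot r'' I hI''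
  have hr₁ : ∀ b, r₁ (ψ' b) = b := fun b => by
    show r' (ad u (ψ b)) = b
    rw [hadψ, hr']
  have hr₂ : ∀ b, r₂ (ψ' b) = b := hr''
  by_cases hs : Function.Surjective ψ'
  · intro a
    obtain ⟨b, hb⟩ := hs (π a)
    calc r'' a = r₂ (π a) := rfl
      _ = r₁ (π a) := by rw [← hb, hr₁, hr₂]
      _ = r' (ad u a) := rfl
  exfalso
  let J' : Ideal (A ⧸ I) :=
    Ideal.map (ψ' : MonoidAlgebra k M →+* A ⧸ I) (RingHom.ker (Bialgebra.counitAlgHom k (MonoidAlgebra k M)))
  haveI : J'.IsHopfIdeal k := TakeuchiLib.isHopfIdeal_map ψ'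
  have hJJ' : J' = J.map (Ideal.Quotient.mk I) := by
    rw [hJ, Ideal.map_map]; rfl
  have hle : ∀ a ∈ J, π a ∈ J' := fun a ha => hJJ' ▸ Ideal.mem_map_of_mem (Ideal.Quotient.mk I) ha
  have hU' : HopfRep.IsUnipotent k ((A ⧸ I) ⧸ J') :=
    TakeuchiLib.isUnipotent_of_surjective (quotMap π J J' hle) (fun z => by
      obtain ⟨z, rfl⟩ := Ideal.Quotient.mk_surjective z
      obtain ⟨a, rfl⟩ := Ideal.Quotient.mk_surjective z
      exact ⟨Ideal.Quotient.mk J a, rfl⟩) hU
  have hcomap : J'.comap (Ideal.Quotient.mk I) = I ⊔ J := by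
    rw [hJJ', Ideal.comap_map_of_surjective _ Ideal.Quotient.mk_surjective, ← RingHom.ker_eq_comap_bot, Ideal.mk_ker,
      sup_comm]
  have hsm' : _root_.IsReduced (MonoidAlgebra k M) ∨ J'.IsRadical := hIrad.imp_right fun h => by
    intro y hy
    obtain ⟨a, rfl⟩ := Ideal.Quotient.mk_surjective y
    obtain ⟨n, hn⟩ := hy
    have h1 : a ∈ Ideal.radical (I ⊔ J) := ⟨n, by rw [← hcomap, Ideal.mem_comap, map_pow]; exact hn⟩
    have h2 := h h1
    rwa [← hcomap, Ideal.mem_comap] at h2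
  obtain ⟨u', I', hI'H, hI'0, hu'J, hI'2, hI'1, hI'rad⟩ := exists_conj_step ψ' r₁ r₂ hr₁ hr₂ (J := J') rfl hU' hsm' hs
  haveI := hI'H
  let P : A →ₐc[k] (A ⧸ I) ⧸ I' := (Bialgebra.Quotient.mkBialgHom (R := k) I').comp π
  have hmem : ∀ a, a ∈ RingHom.ker (P : A →ₐ[k] (A ⧸ I) ⧸ I') ↔ π a ∈ I' := fun a => Ideal.Quotient.eq_zero_iff_mem
  let u₂ : WithConv (A →ₐ[k] k) := pre π u'
  have hu₂J : ∀ a ∈ J, u₂.ofConv a = 0 := fun a ha => hu'J _ (hle a ha)
  have hπad : ∀ a, π (ad u₂ a) = ad u' (π a) := by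
    intro a
    have h : post (π : A →ₐ[k] A ⧸ I) (adC u₂) = pre π (adC u') := by
      rw [post_adC, adC, map_mul, map_mul, map_inv]
      rfl
    exact AlgHom.congr_fun (congrArg WithConv.ofConv h) a
  have hI₂ : RingHom.ker (P : A →ₐ[k] (A ⧸ I) ⧸ I') ∈ S := by
    refine ⟨TakeuchiLib.isHopfIdeal_ker P fun a ha => ?_, fun a ha => hI'2 (π a) ((hmem a).mp ha), ?_,
      u₂ * u, fun a ha => ?_, fun a ha => ?_⟩
    · show Ideal.Quotient.mk I' (π (HopfAlgebra.antipode k a)) = 0
      rw [← GrpSchLib.HopfGalois.antipode_bialgHom π a]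
      exact Ideal.Quotient.eq_zero_iff_mem.mpr (Ideal.IsHopfIdeal.antipode_mem (R := k) (Ideal.Quotient.eq_zero_iff_mem.mp ha))
    · refine hI'rad.imp_right fun h => ?_
      have hk : RingHom.ker (P : A →ₐ[k] (A ⧸ I) ⧸ I') = I'.comap (Ideal.Quotient.mk I) := Ideal.ext hmem
      have hIle : I ≤ I'.comap (Ideal.Quotient.mk I) := fun a ha => by
        rw [Ideal.mem_comap, Ideal.Quotient.eq_zero_iff_mem.mpr ha]; exact zero_mem _
      have e : I'.comap (Ideal.Quotient.mk I) ⊔ J = (I' ⊔ J').comap (Ideal.Quotient.mk I) := by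
        conv_rhs => rw [← Ideal.map_comap_of_surjective (Ideal.Quotient.mk I) Ideal.Quotient.mk_surjective I', hJJ',
          ← Ideal.map_sup, Ideal.comap_map_of_surjective _ Ideal.Quotient.mk_surjective, ← RingHom.ker_eq_comap_bot,
          Ideal.mk_ker]
        exact (sup_eq_left.mpr (hIle.trans le_sup_left)).symm
      rw [hk, e]
      exact h.comap _
    · exact eq_zero_of_comp_eq_one ψ (u₂ * u) (by rw [map_mul, hupre _ hu₂J, hupre u huJ, mul_one]) (hJ ▸ ha)
    · have h : r' (ad (u₂ * u) a) = r' (ad u (ad u₂ a)) := by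
        have h1 : toConv ((r' : A →ₐ[k] MonoidAlgebra k M).comp ((ad (u₂ * u) : A →ₐc[k] A) : A →ₐ[k] A)) =
            toConv (((r' : A →ₐ[k] MonoidAlgebra k M).comp ((ad u : A →ₐc[k] A) : A →ₐ[k] A)).comp
              ((ad u₂ : A →ₐc[k] A) : A →ₐ[k] A)) := by
          rw [toConv_comp_ad, toConv_comp_ad, toConv_comp_ad, map_mul, mul_inv_rev]
          simp only [mul_assoc]
        exact AlgHom.congr_fun (congrArg WithConv.ofConv h1) a
      rw [h]
      have h2 : r₁ (π (ad u₂ a)) = 0 := by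
        rw [hπad]
        exact hI'1 (π a) ((hmem a).mp ha)
      exact h2
  refine hmax _ hI₂ (lt_of_le_not_ge (fun a ha => (hmem a).mpr ?_) fun h => hI'0 ?_)
  · rw [show π a = 0 from Ideal.Quotient.eq_zero_iff_mem.mpr ha]; exact zero_mem _
  · refine (Submodule.eq_bot_iff _).mpr fun z hz => ?_
    obtain ⟨a, rfl⟩ := Ideal.Quotient.mk_surjective z
    exact Ideal.Quotient.eq_zero_iff_mem.mpr (h ((hmem a).mpr hz))

end Groth.Agent.ExtUnipLib
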