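import Groth.Agent.ExtUnipLib.Conj
import Groth.Agent.ExtMultLib.Descent
import Groth.Agent.TakeuchiLib.BaseChange

/-!
# Base change of extensions of groups of multiplicative type by unipotent groups
-/

universe u

set_option autoImplicit false
set_option backward.isDefEq.respectTransparency false
set_option backward.isDefEq.respectTransparency.types false

open TensorProduct WithConv

namespace Groth.Agent.ExtUnipLib

variable {k : Type u} [Field k] {K : Type u} [Field K] [Algebra k K]

/-- A group of multiplicative type is diagonalizable over an algebraically closed field. -/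
theorem isDiag_algClosed [IsAlgClosed K] {B : Type u} [CommRing B] [HopfAlgebra k B] [Algebra.FiniteType k B]
    (hB : SGA3b.IsMultTypeConst k B) : SGA3b.IsDiag K (K ⊗[k] B) := by
  obtain ⟨R, _, _, hff, hd⟩ := hB
  haveI := hff
  obtain ⟨k', _, _, _, _, M', _, -, hd'⟩ :=
    MultTypeLib.isotrivial_of_field k B inferInstance (MultTypeLib.isMultType_of_ff R hd)
  letI : Algebra k' K := (IsAlgClosed.lift (R := k) (S := k') (M := K)).toRingHom.toAlgebra
  haveI : IsScalarTower k k' K :=
    IsScalarTower.of_algebraMap_eq fun x => ((IsAlgClosed.lift (R := k) (S := k') (M := K)).commutes x).symm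
  exact MultTypeLib.isDiag_baseChange k' K ⟨M', _, hd'⟩

variable {A C : Type u} [CommRing A] [HopfAlgebra k A] [CommRing C] [HopfAlgebra k C]

variable (K) in
/-- The base change of a map of bialgebras. -/
noncomputable def bc (ψ : C →ₐc[k] A) : K ⊗[k] C →ₐc[K] K ⊗[k] A := Bialgebra.TensorProduct.map (BialgHom.id K K) ψ

theorem bc_tmul (ψ : C →ₐc[k] A) (x : K) (c : C) : bc K ψ (x ⊗ₜ[k] c) = x ⊗ₜ[k] ψ c := rfl

theorem bc_injective (ψ : C →ₐc[k] A) (hψ : Function.Injective ψ) : Function.Injective (bc K ψ) :=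
  Module.Flat.lTensor_preserves_injective_linearMap (M := K) (ψ : C →ₐ[k] A).toLinearMap hψ

variable (J : Ideal A) [J.IsHopfIdeal k]

theorem bc_mk_surjective : Function.Surjective (bc K (Bialgebra.Quotient.mkBialgHom (R := k) J)) := fun z => by
  induction z using TensorProduct.induction_on with
  | zero => exact ⟨0, map_zero _⟩
  | tmul x t =>
    obtain ⟨a, rfl⟩ := Ideal.Quotient.mk_surjective t
    exact ⟨x ⊗ₜ a, rfl⟩
  | add x y hx hy =>
    obtain ⟨a, rfl⟩ := hx
    obtain ⟨b, rfl⟩ := hy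
    exact ⟨a + b, map_add _ _ _⟩

/-- The kernel ideal commutes with base change. -/
theorem mem_map_bc_iff (ψ : C →ₐc[k] A)
    (hJ : J = Ideal.map (ψ : C →+* A) (RingHom.ker (Bialgebra.counitAlgHom k C))) (z : K ⊗[k] A) :
    z ∈ Ideal.map (bc K ψ : K ⊗[k] C →+* K ⊗[k] A) (RingHom.ker (Bialgebra.counitAlgHom K (K ⊗[k] C))) ↔
      bc K (Bialgebra.Quotient.mkBialgHom (R := k) J) z = 0 := by
  have h2 : bc K (Bialgebra.Quotient.mkBialgHom (R := k) J) z = 0 ↔
      z ∈ RingHom.ker (Algebra.TensorProduct.map (AlgHom.id k K) (Ideal.Quotient.mkₐ k J)) := Iff.rfl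
  rw [h2, Algebra.TensorProduct.lTensor_ker _ Ideal.Quotient.mk_surjective,
    show RingHom.ker (Ideal.Quotient.mkₐ k J) = J from Ideal.mk_ker, hJ]
  constructor
  · intro hz
    refine (Ideal.map_le_iff_le_comap.mpr fun d hd => ?_ : _ ≤ _) hz
    show bc K ψ d ∈ Ideal.map (Algebra.TensorProduct.includeRight : A →ₐ[k] K ⊗[k] A)
      (Ideal.map (ψ : C →+* A) (RingHom.ker (Bialgebra.counitAlgHom k C)))
    have hd' : Coalgebra.counit (R := K) d = 0 := hd
    have key : ∀ d : K ⊗[k] C, bc K ψ d - (1 : K ⊗[k] A) * algebraMap K _ (Coalgebra.counit (R := K) d) ∈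
        Ideal.map (Algebra.TensorProduct.includeRight : A →ₐ[k] K ⊗[k] A)
          (Ideal.map (ψ : C →+* A) (RingHom.ker (Bialgebra.counitAlgHom k C))) := fun d => by
      induction d using TensorProduct.induction_on with
      | zero => simp
      | tmul x c =>
        have hc : (1 : K) ⊗ₜ[k] (ψ (c - algebraMap k C (Coalgebra.counit (R := k) c))) ∈
            Ideal.map (Algebra.TensorProduct.includeRight : A →ₐ[k] K ⊗[k] A)
              (Ideal.map (ψ : C →+* A) (RingHom.ker (Bialgebra.counitAlgHom k C))) :=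
          Ideal.mem_map_of_mem _ (Ideal.mem_map_of_mem (ψ : C →+* A) (RingHom.mem_ker.mpr (by simp)))
        have : bc K ψ (x ⊗ₜ[k] c) - (1 : K ⊗[k] A) * algebraMap K _ (Coalgebra.counit (R := K) (x ⊗ₜ[k] c)) =
            (x ⊗ₜ[k] (1 : A)) * ((1 : K) ⊗ₜ[k] ψ (c - algebraMap k C (Coalgebra.counit (R := k) c))) := by
          rw [bc_tmul, map_sub, TensorProduct.tmul_sub, mul_sub, Algebra.TensorProduct.tmul_mul_tmul, mul_one, one_mul,
            Algebra.TensorProduct.tmul_mul_tmul, mul_one, one_mul, one_mul, AlgHomClass.commutes]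
          congr 1
          rw [TensorProduct.counit_tmul, Algebra.TensorProduct.algebraMap_apply, Algebra.algebraMap_eq_smul_one (R := k),
            TensorProduct.tmul_smul, TensorProduct.smul_tmul']
          simp
        rw [this]
        exact Ideal.mul_mem_left _ _ hc
      | add x y hx hy => rw [map_add, map_add, map_add, mul_add, add_sub_add_comm]; exact Ideal.add_mem _ hx hy
    have := key d
    rwa [hd', map_zero, mul_zero, sub_zero] at this
  · intro hz
    refine (Ideal.map_le_iff_le_comap.mpr (Ideal.map_le_iff_le_comap.mpr fun c hc => ?_) : _ ≤ _) hz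
    refine Ideal.mem_map_of_mem (bc K ψ : K ⊗[k] C →+* K ⊗[k] A) (x := (1 : K) ⊗ₜ[k] c) ?_
    show Coalgebra.counit (R := K) ((1 : K) ⊗ₜ[k] c) = 0
    simp [show Coalgebra.counit (R := k) c = 0 from hc]

/-- The kernel of the base change is the base change of the kernel. -/
theorem isUnipotent_bc (ψ : C →ₐc[k] A) (hJ : J = Ideal.map (ψ : C →+* A) (RingHom.ker (Bialgebra.counitAlgHom k C)))
    (hU : HopfRep.IsUnipotent k (A ⧸ J)) (J' : Ideal (K ⊗[k] A)) [J'.IsHopfIdeal K]
    (hJ' : ∀ z, z ∈ J' ↔ bc K (Bialgebra.Quotient.mkBialgHom (R := k) J) z = 0) :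
    HopfRep.IsUnipotent K ((K ⊗[k] A) ⧸ J') := by
  let f := liftQuot (bc K (Bialgebra.Quotient.mkBialgHom (R := k) J)) J' fun a ha => (hJ' a).mp ha
  have hf : Function.Bijective f := by
    refine ⟨(injective_iff_map_eq_zero f).mpr fun z hz => ?_, fun z => ?_⟩
    · obtain ⟨a, rfl⟩ := Ideal.Quotient.mk_surjective z
      exact Ideal.Quotient.eq_zero_iff_mem.mpr ((hJ' a).mpr hz)
    · obtain ⟨a, rfl⟩ := bc_mk_surjective J z
      exact ⟨Ideal.Quotient.mk J' a, rfl⟩
  let e := BialgEquiv.ofBijective f hf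
  exact TakeuchiLib.isUnipotent_of_surjective (e.symm : K ⊗[k] (A ⧸ J) →ₐc[K] (K ⊗[k] A) ⧸ J') e.symm.surjective
    (TakeuchiLib.isUnipotent_baseChange (K := K) hU)

end Groth.Agent.ExtUnipLib
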