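import Groth.Agent.ExtUnipLib.Main
import Groth.Agent.DynLib.Orbit
import Mathlib.RingTheory.HopfAlgebra.Convolution

/-!
# Convolution groups, conjugation by points, points with a prescribed value
-/

universe u

set_option autoImplicit false
set_option backward.isDefEq.respectTransparency false
set_option backward.isDefEq.respectTransparency.types false

open TensorProduct WithConv Polynomial

namespace Groth.Agent.ExtUnipLib

open ExtMultLib (coeffFun coeffFun_single)

variable {k : Type u} [Field k] {A : Type u} [CommRing A] [HopfAlgebra k A]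

open DynLib (post post_apply)
open scoped DynLib

/-- Composition with a bialgebra map, on convolution groups. -/
noncomputable def pre {A' S : Type u} [CommRing A'] [HopfAlgebra k A'] [CommRing S] [Algebra k S] (h : A' →ₐc[k] A) :
    WithConv (A →ₐ[k] S) →* WithConv (A' →ₐ[k] S) where
  toFun f := toConv (f.ofConv.comp (h : A' →ₐ[k] A))
  map_one' := WithConv.ofConv_injective (AlgHom.ext fun a => by
    simp [AlgHom.convOne_apply, CoalgHomClass.counit_comp_apply])
  map_mul' f g := WithConv.ofConv_injective (AlgHom.convMul_comp_bialgHom_distrib f g h)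

theorem pre_apply {A' S : Type u} [CommRing A'] [HopfAlgebra k A'] [CommRing S] [Algebra k S] (h : A' →ₐc[k] A)
    (f : A →ₐ[k] S) : pre h (toConv f) = toConv (f.comp (h : A' →ₐ[k] A)) := rfl

theorem toConv_inv {S : Type u} [CommRing S] [Algebra k S] (f : A →ₐ[k] S) :
    (toConv f)⁻¹ = toConv (f.comp (HopfAlgebra.antipodeAlgHom k A)) := rfl

theorem convOne_eq {S : Type u} [CommRing S] [Algebra k S] :
    (1 : WithConv (A →ₐ[k] S)) = toConv ((Algebra.ofId k S).comp (Bialgebra.counitAlgHom k A)) := rfl

variable (k A) in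
/-- The comultiplication as a product of the two coordinates. -/
theorem comul_eq_mul : toConv (Bialgebra.comulAlgHom k A) =
    toConv (Algebra.TensorProduct.includeLeft : A →ₐ[k] A ⊗[k] A) * toConv Algebra.TensorProduct.includeRight := by
  refine WithConv.ofConv_injective (AlgHom.ext fun a => ?_)
  rw [ofConv_toConv, GrpSchLib.HopfQuot.convMul_apply]
  show Coalgebra.comul (R := k) a = _
  induction Coalgebra.comul (R := k) a using TensorProduct.induction_on with
  | zero => simp
  | tmul x y => simp
  | add x y hx hy => simp only [map_add, ← hx, ← hy]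

/-- Value of a product at a skew-primitive element. -/
theorem mul_apply_skew {S : Type u} [CommRing S] [Algebra k S] (F G : WithConv (A →ₐ[k] S)) {x g : A}
    (hx : Coalgebra.comul (R := k) x = x ⊗ₜ[k] g + (1 : A) ⊗ₜ[k] x) :
    (F * G).ofConv x = F.ofConv x * G.ofConv g + G.ofConv x := by
  rw [show F = toConv F.ofConv from rfl, show G = toConv G.ofConv from rfl, GrpSchLib.HopfQuot.convMul_apply, hx]
  simp

/-- Value of a product at a group-like element. -/
theorem mul_apply_groupLike {S : Type u} [CommRing S] [Algebra k S] (F G : WithConv (A →ₐ[k] S)) {g : A}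
    (hg : Coalgebra.comul (R := k) g = g ⊗ₜ[k] g) : (F * G).ofConv g = F.ofConv g * G.ofConv g := by
  rw [show F = toConv F.ofConv from rfl, show G = toConv G.ofConv from rfl, GrpSchLib.HopfQuot.convMul_apply, hg]
  simp

/-- A point as a map into the algebra. -/
noncomputable def pt (S : Type u) [CommRing S] [Algebra k S] : WithConv (A →ₐ[k] k) →* WithConv (A →ₐ[k] S) :=
  post (Algebra.ofId k S)

theorem pt_apply (S : Type u) [CommRing S] [Algebra k S] (u : WithConv (A →ₐ[k] k)) (a : A) :
    (pt S u).ofConv a = algebraMap k S (u.ofConv a) := rfl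

theorem post_pt {S T : Type u} [CommRing S] [Algebra k S] [CommRing T] [Algebra k T] (φ : S →ₐ[k] T)
    (u : WithConv (A →ₐ[k] k)) : post φ (pt S u) = pt T u :=
  WithConv.ofConv_injective (AlgHom.ext fun a => φ.commutes _)

/-- Conjugation, as an element of the convolution group. -/
noncomputable def adC (u : WithConv (A →ₐ[k] k)) : WithConv (A →ₐ[k] A) := pt A u * toConv (AlgHom.id k A) * (pt A u)⁻¹

theorem post_adC {S : Type u} [CommRing S] [Algebra k S] (φ : A →ₐ[k] S) (u : WithConv (A →ₐ[k] k)) :
    post φ (adC u) = pt S u * toConv φ * (pt S u)⁻¹ := by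
  rw [adC, map_mul, map_mul, map_inv, post_pt]
  rfl

/-- Conjugation by a point. -/
noncomputable def ad (u : WithConv (A →ₐ[k] k)) : A →ₐc[k] A :=
  BialgHom.ofAlgHom (adC u).ofConv
    (by
      have h : post (Bialgebra.counitAlgHom k A) (adC u) = toConv (Bialgebra.counitAlgHom k A) := by
        rw [post_adC, show (toConv (Bialgebra.counitAlgHom k A) : WithConv (A →ₐ[k] k)) = 1 from
          WithConv.ofConv_injective (AlgHom.ext fun a => by simp [convOne_eq]), mul_one, mul_inv_cancel]
      exact congrArg WithConv.ofConv h)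
    (by
      let m := Algebra.TensorProduct.map (adC u).ofConv (adC u).ofConv
      have h : post m (toConv (Bialgebra.comulAlgHom k A)) = post (Bialgebra.comulAlgHom k A) (adC u) := by
        rw [post_adC, comul_eq_mul, map_mul,
          show post m (toConv (Algebra.TensorProduct.includeLeft : A →ₐ[k] A ⊗[k] A)) =
            post (Algebra.TensorProduct.includeLeft : A →ₐ[k] A ⊗[k] A) (adC u) from
              WithConv.ofConv_injective (AlgHom.ext fun a => by simp [post, m]),
          show post m (toConv (Algebra.TensorProduct.includeRight : A →ₐ[k] A ⊗[k] A)) =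
            post (Algebra.TensorProduct.includeRight : A →ₐ[k] A ⊗[k] A) (adC u) from
              WithConv.ofConv_injective (AlgHom.ext fun a => by simp [post, m]),
          post_adC, post_adC]
        group
      exact congrArg WithConv.ofConv h)

theorem toConv_ad (u : WithConv (A →ₐ[k] k)) : toConv ((ad u : A →ₐc[k] A) : A →ₐ[k] A) = adC u := rfl

theorem toConv_comp_ad {S : Type u} [CommRing S] [Algebra k S] (φ : A →ₐ[k] S) (u : WithConv (A →ₐ[k] k)) :
    toConv (φ.comp ((ad u : A →ₐc[k] A) : A →ₐ[k] A)) = pt S u * toConv φ * (pt S u)⁻¹ := post_adC φ u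

variable {M : Type u} [CommGroup M]

/-- A skew-primitive element of a group algebra. -/
theorem eq_smul_of_skew {e : M} {b : MonoidAlgebra k M}
    (hb : Coalgebra.comul (R := k) b = b ⊗ₜ[k] MonoidAlgebra.single e 1 + (1 : MonoidAlgebra k M) ⊗ₜ[k] b) :
    ∃ c : k, b = c • (MonoidAlgebra.single e (1 : k) - 1) := by
  classical
  refine ⟨-coeffFun (1 : M) b, ?_⟩
  have h := coeff_one_comul b
  rw [hb, map_add, map_add, LinearMap.rTensor_tmul, LinearMap.rTensor_tmul, TensorProduct.lid_tmul,
    TensorProduct.lid_tmul, MonoidAlgebra.one_def, coeffFun_single, if_pos rfl, one_smul, ← MonoidAlgebra.one_def] at h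
  rw [neg_smul, smul_sub, neg_sub, ← h]
  abel

theorem isUnit_single_sub_one {χ : M} {d : ℕ} {p : ℕ} [ExpChar k p] [_root_.IsReduced (MonoidAlgebra k M)]
    (e : ℕ) (hd : d = p ^ e) (h : χ ^ d = 1) : χ = 1 := by
  haveI : Nontrivial (MonoidAlgebra k M) :=
    (Bialgebra.counitAlgHom k (MonoidAlgebra k M)).toRingHom.domain_nontrivial
  haveI : ExpChar (MonoidAlgebra k M) p := expChar_of_injective_algebraMap (algebraMap k _).injective p
  have h0 : (MonoidAlgebra.single χ (1 : k) - 1) ^ p ^ e = 0 := by
    rw [sub_pow_expChar_pow, one_pow, MonoidAlgebra.single_pow, one_pow, ← hd, h, ← MonoidAlgebra.one_def, sub_self]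
  have h1 := sub_eq_zero.mp (IsNilpotent.eq_zero ⟨_, h0⟩)
  exact MonoidAlgebra.single_left_injective (R := k) (r := 1) one_ne_zero (h1.trans MonoidAlgebra.one_def)

/-- A point with a prescribed value on a primitive element. -/
theorem exists_point_value [IsAlgClosed k] [Algebra.FiniteType k A] {z : A}
    (hz : Coalgebra.comul (R := k) z = z ⊗ₜ[k] (1 : A) + (1 : A) ⊗ₜ[k] z) (c : k)
    (h : ∀ P : k[X], aeval z P = 0 → P.eval c = 0) : ∃ g : A →ₐ[k] k, g z = c := by
  let D : Subalgebra k A := (aeval (R := k) z).range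
  have hzD : z ∈ D := ⟨X, aeval_X z⟩
  have hSz : HopfAlgebra.antipode k z = -z := GrpSchLib.antipode_primitive hz
  have hD : SGA3.IsHopfSubalgebra k A D := by
    refine ⟨?_, ?_⟩
    · rintro _ ⟨P, rfl⟩
      change Bialgebra.comulAlgHom k A (aeval z P) ∈ (Algebra.TensorProduct.map D.val D.val).range
      rw [← Polynomial.aeval_algHom_apply]
      refine Algebra.adjoin_le (R := k) (Set.singleton_subset_iff.mpr ?_) (aeval_mem_adjoin_singleton k _)
      show Coalgebra.comul (R := k) z ∈ _
      rw [hz]
      exact add_mem ⟨⟨z, hzD⟩ ⊗ₜ[k] (1 : D), rfl⟩ ⟨(1 : D) ⊗ₜ[k] ⟨z, hzD⟩, rfl⟩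
    · rintro _ ⟨P, rfl⟩
      change HopfAlgebra.antipodeAlgHom k A (aeval z P) ∈ D
      rw [← Polynomial.aeval_algHom_apply]
      refine Algebra.adjoin_le (R := k) (Set.singleton_subset_iff.mpr ?_) (aeval_mem_adjoin_singleton k _)
      show HopfAlgebra.antipode k z ∈ D
      rw [hSz]
      exact neg_mem hzD
  letI := GrpSchLib.SubHopf.hopf D hD
  haveI : Algebra.FiniteType k D :=
    (inferInstance : Algebra.FiniteType k k[X]).of_surjective _ (aeval (R := k) z).rangeRestrict_surjective
  let j : D →ₐc[k] A := BialgHom.ofAlgHom D.val rfl (AlgHom.ext fun c => GrpSchLib.SubHopf.map_comulRes D hD c)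
  let π : k[X] →ₐ[k] D := (aeval (R := k) z).rangeRestrict
  have hπ : Function.Surjective π := (aeval (R := k) z).rangeRestrict_surjective
  have hle : RingHom.ker π ≤ RingHom.ker (aeval (R := k) c) := fun P hP => by
    have := h P (congrArg Subtype.val hP)
    rw [RingHom.mem_ker, ← this, aeval_def, eval, Algebra.algebraMap_self]
  let e : D →ₐ[k] k :=
    (Ideal.Quotient.liftₐ _ (aeval (R := k) c) fun P hP => hle hP).comp
      (Ideal.quotientKerAlgEquivOfSurjective hπ).symm.toAlgHom
  obtain ⟨g, hg⟩ := ExtMultLib.exists_point_over j Subtype.val_injective e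
  refine ⟨g, ?_⟩
  have h1 := hg ⟨z, hzD⟩
  rw [show j ⟨z, hzD⟩ = z from rfl] at h1
  rw [h1]
  have h2 : (Ideal.quotientKerAlgEquivOfSurjective hπ).symm ⟨z, hzD⟩ = Ideal.Quotient.mk _ X := by
    rw [AlgEquiv.symm_apply_eq]
    exact Subtype.ext (aeval_X z).symm
  simp only [e, AlgHom.comp_apply, AlgEquiv.coe_toAlgHom, h2]
  exact aeval_X (R := k) c

end Groth.Agent.ExtUnipLib
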