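import Groth.Agent.ExtUnipLib.Ad
import Groth.Agent.HeightOneLib.Frob
import Groth.Agent.ComodLib.LieKill
import Groth.Agent.S7963
import Groth.Agent.QRepLib.Naive
import Mathlib.RingTheory.Kaehler.TensorProduct
import Mathlib.RingTheory.Smooth.Basic

/-!
# Primitive elements of smooth unipotent groups with smooth kernel
-/

universe u

set_option autoImplicit false
set_option backward.isDefEq.respectTransparency false
set_option backward.isDefEq.respectTransparency.types false

open TensorProduct WithConv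

namespace Groth.Agent.ExtUnipLib

open ComodLib (actF slice lieOp)
open LieHopf (dlin Lie)

variable {k : Type u} [Field k]

/-- A hypersurface with a nowhere vanishing derivative in a smooth algebra is smooth. -/
theorem formallySmooth_quotient_span {P : Type u} [CommRing P] [Algebra k P] [Algebra.FormallySmooth k P] (z : P)
    (δ : Derivation k P P) (c : k) (hc : c ≠ 0) (hδ : δ z = algebraMap k P c) :
    Algebra.FormallySmooth k (P ⧸ Ideal.span ({z} : Set P)) := by
  set Q := P ⧸ Ideal.span ({z} : Set P) with hQ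
  have hsurj : Function.Surjective (algebraMap P Q) := Ideal.Quotient.mk_surjective
  have hz : z ∈ RingHom.ker (algebraMap P Q) :=
    RingHom.mem_ker.mpr (Ideal.Quotient.eq_zero_iff_mem.mpr (Ideal.mem_span_singleton_self z))
  set I := RingHom.ker (algebraMap P Q) with hI
  let z' : I.Cotangent := I.toCotangent ⟨z, hz⟩
  let g : Ω[P⁄k] →ₗ[P] Q := (Algebra.linearMap P Q) ∘ₗ (c⁻¹ • δ).liftKaehlerDifferential
  let bil : Q →ₗ[P] Ω[P⁄k] →ₗ[P] Q := (LinearMap.mul P Q).compl₂ g
  let G : Q ⊗[P] Ω[P⁄k] →ₗ[P] Q := TensorProduct.lift bil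
  have hann : ∀ a ∈ I, a • z' = 0 := fun a ha => by
    rw [← map_smul, Ideal.toCotangent_eq_zero]
    show a * z ∈ I ^ 2
    rw [pow_two]
    exact Ideal.mul_mem_mul ha hz
  let H : Q →ₗ[P] I.Cotangent := (Submodule.liftQ (Ideal.span ({z} : Set P)) (LinearMap.toSpanSingleton P _ z') fun a ha => by
    refine LinearMap.mem_ker.mpr ?_
    rw [LinearMap.toSpanSingleton_apply]
    exact hann a (RingHom.mem_ker.mpr (Ideal.Quotient.eq_zero_iff_mem.mpr ha)))
  refine (Algebra.FormallySmooth.iff_split_injection (P := P) hsurj).mpr ⟨H ∘ₗ G, LinearMap.ext fun y => ?_⟩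
  obtain ⟨⟨y, hy⟩, rfl⟩ := I.toCotangent_surjective y
  obtain ⟨a, rfl⟩ := Ideal.mem_span_singleton'.mp (Ideal.Quotient.eq_zero_iff_mem.mp (RingHom.mem_ker.mp hy))
  rw [show (⟨a * z, hy⟩ : I) = a • ⟨z, hz⟩ from rfl, map_smul, map_smul, map_smul]
  congr 1
  show H (G (KaehlerDifferential.kerCotangentToTensor k P Q (I.toCotangent ⟨z, hz⟩))) = z'
  rw [KaehlerDifferential.kerCotangentToTensor_toCotangent]
  show H ((1 : Q) * algebraMap P Q ((c⁻¹ • δ).liftKaehlerDifferential (KaehlerDifferential.D k P z))) = z'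
  rw [Derivation.liftKaehlerDifferential_comp_D, Derivation.smul_apply, hδ, Algebra.smul_def, ← map_mul,
    inv_mul_cancel₀ hc, map_one, map_one, one_mul]
  show LinearMap.toSpanSingleton P _ z' 1 = z'
  rw [LinearMap.toSpanSingleton_apply, one_smul]

variable {A : Type u} [CommRing A] [HopfAlgebra k A]

/-- An invariant derivation as a derivation. -/
noncomputable def lieDer (D : Lie k A) : Derivation k A A :=
  Derivation.mk' (lieOp D) fun a b => by
    rw [smul_eq_mul, smul_eq_mul]
    exact ComodLib.lieOp_mul D a b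

theorem lieOp_primitive (D : Lie k A) {z : A}
    (hz : Coalgebra.comul (R := k) z = z ⊗ₜ[k] (1 : A) + (1 : A) ⊗ₜ[k] z) : lieOp D z = algebraMap k A (dlin D z) := by
  show slice (dlin D) (Coalgebra.comul (R := k) z) = _
  rw [hz, map_add, ComodLib.slice_tmul, ComodLib.slice_tmul, LieHopf.dlin_one, zero_smul, zero_add,
    Algebra.algebraMap_eq_smul_one]

variable [IsAlgClosed k] [Algebra.FiniteType k A] [_root_.IsReduced A]

theorem formallySmooth_of_reduced : Algebra.FormallySmooth k A := by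
  haveI := S7963.formallySmooth_red (k := k) (A := A)
  exact Algebra.FormallySmooth.of_equiv
    ((Ideal.quotientEquivAlgOfEq k (nilradical_eq_zero A)).trans (AlgEquiv.quotientBot k A))

theorem isReduced_tensor_self : _root_.IsReduced (A ⊗[k] A) := by
  haveI := formallySmooth_of_reduced (k := k) (A := A)
  haveI : Algebra.FinitePresentation k A := Algebra.FinitePresentation.of_finiteType.1 inferInstance
  haveI : Algebra.Smooth k A := ⟨inferInstance, inferInstance⟩
  haveI : Algebra.Smooth k (A ⊗[k] A) := Algebra.Smooth.comp k A (A ⊗[k] A)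
  exact QRepLib.isReduced_of_smooth_algebra k _

theorem isRadical_span_of_derivative {z : A}
    (hz : Coalgebra.comul (R := k) z = z ⊗ₜ[k] (1 : A) + (1 : A) ⊗ₜ[k] z) (D : Lie k A) (hD : dlin D z ≠ 0) :
    (Ideal.span ({z} : Set A)).IsRadical := by
  haveI := formallySmooth_of_reduced (k := k) (A := A)
  haveI : IsNoetherianRing A := Algebra.FiniteType.isNoetherianRing k A
  haveI := formallySmooth_quotient_span z (lieDer D) _ hD (lieOp_primitive D hz)
  haveI : Algebra.FiniteType k (A ⧸ Ideal.span ({z} : Set A)) :=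
    Algebra.FiniteType.of_surjective (Ideal.Quotient.mkₐ k _) (Ideal.Quotient.mkₐ_surjective k _)
  haveI : Algebra.FinitePresentation k (A ⧸ Ideal.span ({z} : Set A)) :=
    Algebra.FinitePresentation.of_finiteType.1 inferInstance
  haveI : Algebra.Smooth k (A ⧸ Ideal.span ({z} : Set A)) := ⟨inferInstance, inferInstance⟩
  exact (Ideal.isRadical_iff_quotient_reduced _).mpr (QRepLib.isReduced_of_smooth_algebra k _)

theorem exists_root_of_killed (p : ℕ) [Fact p.Prime] [CharP k p] {z : A}
    (hz : Coalgebra.comul (R := k) z = z ⊗ₜ[k] (1 : A) + (1 : A) ⊗ₜ[k] z) (h : ∀ D : Lie k A, dlin D z = 0) :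
    ∃ w : A, Coalgebra.comul (R := k) w = w ⊗ₜ[k] (1 : A) + (1 : A) ⊗ₜ[k] w ∧ w ^ p = z := by
  let K := A ⧸ HeightOneLib.frobIdeal k A p
  let π : A →ₐc[k] K := Bialgebra.Quotient.mkBialgHom (R := k) (HeightOneLib.frobIdeal k A p)
  have hp0 : p ≠ 0 := (Fact.out : p.Prime).ne_zero
  have hK : ∀ t ∈ ComodLib.aug k K, t ^ p = 0 := fun t ht => by
    obtain ⟨a, rfl⟩ := Ideal.Quotient.mk_surjective t
    rw [← map_pow]
    refine Ideal.Quotient.eq_zero_iff_mem.mpr (HeightOneLib.pow_mem_frobIdeal p (RingHom.mem_ker.mpr ?_))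
    exact (CoalgHomClass.counit_comp_apply π a).symm.trans ht
  have hπz : Coalgebra.comul (R := k) (π z) = π z ⊗ₜ[k] (1 : K) + (1 : K) ⊗ₜ[k] π z := by
    rw [← CoalgHomClass.map_comp_comul_apply, hz]
    simp
  have hεz : Coalgebra.counit (R := k) z = 0 := GrpSchLib.counit_primitive hz
  have h0 : π z = 0 := by
    rw [HeightOneLib.eq_algebraMap_of_killed p hK (π z) fun D => ?_]
    · rw [show Bialgebra.counitAlgHom k K (π z) = 0 from (CoalgHomClass.counit_comp_apply π z).trans hεz, map_zero]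
    · rw [lieOp_primitive D hπz, show dlin D (π z) = dlin (HeightOneLib.lieComap π D) z from rfl, h, map_zero]
  have hmem : z ∈ HeightOneLib.frobIdeal k A p := Ideal.Quotient.eq_zero_iff_mem.mp h0
  obtain ⟨c, hc⟩ := TakeuchiLib.mem_range_of_invariant (HeightOneLib.frobIncl k A p)
    (HeightOneLib.frobIncl_injective p) z (by
      rw [hz, add_sub_cancel_left]
      exact ⟨(1 : A) ⊗ₜ[k] ⟨z, hmem⟩, rfl⟩)
  obtain ⟨w, hw⟩ := HeightOneLib.exists_root_of_mem (k := k) p (hc ▸ c.2 : z ∈ HeightOneLib.frobAlg k A p)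
  refine ⟨w, ?_, hw⟩
  haveI := isReduced_tensor_self (k := k) (A := A)
  have h1 : (Coalgebra.comul (R := k) w - (w ⊗ₜ[k] (1 : A) + (1 : A) ⊗ₜ[k] w)) ^ p = 0 := by
    have e1 : (Coalgebra.comul (R := k) w) ^ p = Coalgebra.comul (R := k) z := by rw [← Bialgebra.comul_pow, hw]
    have e2 : (w ⊗ₜ[k] (1 : A) + (1 : A) ⊗ₜ[k] w) ^ p = Coalgebra.comul (R := k) z := by
      rw [HeightOneLib.add_pow_alg p k, Algebra.TensorProduct.tmul_pow, Algebra.TensorProduct.tmul_pow, hw, one_pow, hz]
    haveI : Nontrivial (A ⊗[k] A) := ((Algebra.TensorProduct.lift (Bialgebra.counitAlgHom k A) (Bialgebra.counitAlgHom k A)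
      fun _ _ => Commute.all _ _).toRingHom).domain_nontrivial
    haveI : CharP (A ⊗[k] A) p := charP_of_injective_algebraMap (algebraMap k (A ⊗[k] A)).injective p
    rw [sub_pow_char, e1, e2, sub_self]
  exact sub_eq_zero.mp (IsNilpotent.eq_zero ⟨p, h1⟩)

/-- Either some primitive element has nonzero differential or all primitive hypersurfaces are reduced. -/
theorem dichotomy (hU : HopfRep.IsUnipotent k A) :
    (∃ w : A, Coalgebra.comul (R := k) w = w ⊗ₜ[k] (1 : A) + (1 : A) ⊗ₜ[k] w ∧ ∃ D : Lie k A, dlin D w ≠ 0) ∨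
      ∀ z : A, Coalgebra.comul (R := k) z = z ⊗ₜ[k] (1 : A) + (1 : A) ⊗ₜ[k] z →
        (Ideal.span ({z} : Set A)).IsRadical := by
  classical
  by_cases hex : ∃ w : A, Coalgebra.comul (R := k) w = w ⊗ₜ[k] (1 : A) + (1 : A) ⊗ₜ[k] w ∧ ∃ D : Lie k A, dlin D w ≠ 0
  · exact Or.inl hex
  push Not at hex
  refine Or.inr fun z hz => ?_
  obtain ⟨p, hchar⟩ := CharP.exists k
  rcases CharP.char_is_prime_or_zero k p with hp | hp
  swap
  · subst hp
    haveI := CharP.charP_to_charZero k
    rw [show z = 0 by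
      rw [ComodLib.eq_algebraMap_of_killed hU (a := z) (fun L => by
          rw [lieOp_primitive L hz, hex z hz L, map_zero]),
        show Bialgebra.counitAlgHom k A z = 0 from GrpSchLib.counit_primitive hz, map_zero]]
    intro y hy
    obtain ⟨n, hn⟩ := hy
    rw [Ideal.span_singleton_eq_bot.mpr rfl, Ideal.mem_bot] at hn ⊢
    exact IsNilpotent.eq_zero ⟨n, hn⟩
  haveI := Fact.mk hp
  choose! f hf hfp using fun a ha => exists_root_of_killed (k := k) (A := A) p (z := a) ha (hex a ha)
  let w : ℕ → A := fun n => f^[n] z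
  have hw : ∀ n, Coalgebra.comul (R := k) (w n) = w n ⊗ₜ[k] (1 : A) + (1 : A) ⊗ₜ[k] w n := by
    intro n
    induction n with
    | zero => exact hz
    | succ n ih =>
      rw [show w (n + 1) = f (w n) from Function.iterate_succ_apply' f n z]
      exact hf _ ih
  have hwp : ∀ n, w (n + 1) ^ p = w n := fun n => by
    rw [show w (n + 1) = f (w n) from Function.iterate_succ_apply' f n z]
    exact hfp _ (hw n)
  haveI : IsNoetherianRing A := Algebra.FiniteType.isNoetherianRing k A
  let I : ℕ →o Ideal A :=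
    ⟨fun n => Ideal.span {w n}, monotone_nat_of_le_succ fun n => by
      rw [Ideal.span_singleton_le_span_singleton, ← hwp n]
      exact dvd_pow_self _ hp.ne_zero⟩
  obtain ⟨n, hn⟩ := monotone_stabilizes_iff_noetherian.mpr (inferInstance : IsNoetherian A A) I
  have hmem : w (n + 1) ∈ Ideal.span ({w n} : Set A) := by
    rw [show Ideal.span ({w n} : Set A) = Ideal.span {w (n + 1)} from hn (n + 1) (Nat.le_succ n)]
    exact Ideal.mem_span_singleton_self _
  obtain ⟨a, ha⟩ := Ideal.mem_span_singleton'.mp hmem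
  set u := w (n + 1) with hu
  rw [← hwp n, ← hu] at ha
  obtain ⟨q, hq⟩ : ∃ q, p = q + 2 := ⟨p - 2, by have := hp.two_le; omega⟩
  set e := a * u ^ (q + 1) with he
  have hue : u * e = u := by
    conv_rhs => rw [← ha, hq]
    rw [he]; ring
  have hee : e * e = e := by
    calc e * e = a * (u ^ q * (u * e)) := by rw [he]; ring
      _ = e := by rw [hue, he]; ring
  have hzpow : ∀ m, w m ^ p ^ m = z := by
    intro m
    induction m with
    | zero => simp [w]
    | succ m ih => rw [pow_succ', pow_mul, hwp, ih]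
  set N := p ^ (n + 1) with hN
  have hzu : u ^ N = z := hzpow (n + 1)
  have hN0 : 0 < N := pow_pos hp.pos _
  have hspan : Ideal.span ({z} : Set A) = Ideal.span {e} := by
    refine le_antisymm (Ideal.span_singleton_le_span_singleton.mpr ⟨u ^ N, ?_⟩)
      (Ideal.span_singleton_le_span_singleton.mpr ⟨a ^ N * u ^ (q * N), ?_⟩)
    · rw [← hzu]
      obtain ⟨m, hm⟩ := Nat.exists_eq_succ_of_ne_zero hN0.ne'
      rw [hm, pow_succ]
      calc u ^ m * u = u ^ m * (u * e) := by rw [hue]
        _ = e * (u ^ m * u) := by ring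
    · have hpow : e ^ N = e := by
        obtain ⟨m, hm⟩ := Nat.exists_eq_succ_of_ne_zero hN0.ne'
        rw [hm]
        exact IsIdempotentElem.pow_succ_eq m (show IsIdempotentElem e from hee)
      rw [← hzu]
      conv_lhs => rw [← hpow, he]
      ring
  rw [hspan]
  intro y hy
  obtain ⟨m, hm⟩ := hy
  obtain ⟨b, hb⟩ := Ideal.mem_span_singleton'.mp hm
  rcases Nat.eq_zero_or_pos m with rfl | hm0
  · rw [pow_zero] at hb
    exact Ideal.mem_span_singleton'.mpr ⟨y * b, by rw [mul_assoc, hb, mul_one]⟩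
  have h0 : (y * (1 - e)) ^ m = 0 := by
    obtain ⟨m', rfl⟩ := Nat.exists_eq_succ_of_ne_zero hm0.ne'
    rw [mul_pow, ← hb, pow_succ', show b * e * ((1 - e) * (1 - e) ^ m') = b * (e - e * e) * (1 - e) ^ m' by ring,
      hee, sub_self, mul_zero, zero_mul]
  have := IsNilpotent.eq_zero ⟨m, h0⟩
  rw [mul_sub, mul_one, sub_eq_zero] at this
  exact Ideal.mem_span_singleton'.mpr ⟨y, this.symm⟩

end Groth.Agent.ExtUnipLib
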