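import Groth.Agent.ExtUnipLib.Skew
import Mathlib.Data.Nat.Choose.Lucas
import Mathlib.FieldTheory.Minpoly.Field
import Mathlib.Algebra.CharP.Lemmas
import Mathlib.FieldTheory.IsAlgClosed.Basic

/-!
# Polynomial relations of skew-primitive elements
-/

universe u

set_option autoImplicit false
set_option backward.isDefEq.respectTransparency false
set_option backward.isDefEq.respectTransparency.types false

open TensorProduct WithConv Polynomial

namespace Groth.Agent.ExtUnipLib

open ComodLib (actF slice)
open ExtMultLib (coeffFun coeffFun_single)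

variable {k : Type u} [Field k]

/-- Functionals reading off coefficients of independent powers. -/
theorem exists_coeff_fun {Q : Type u} [CommRing Q] [Algebra k Q] (x : Q) (N : ℕ)
    (h : ∀ P : k[X], P.natDegree < N → aeval x P = 0 → P = 0) (i : ℕ) :
    ∃ φ : Q →ₗ[k] k, ∀ j < N, φ (x ^ j) = if j = i then 1 else 0 := by
  let F : degreeLT k N →ₗ[k] Q := (aeval x).toLinearMap ∘ₗ (degreeLT k N).subtype
  have hF : Function.Injective F := by
    refine (injective_iff_map_eq_zero F).mpr fun P hP => Subtype.ext ?_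
    by_cases h0 : (P : k[X]) = 0
    · exact h0
    · exact h _ ((natDegree_lt_iff_degree_lt h0).mpr (mem_degreeLT.mp P.2)) hP
  obtain ⟨G, hG⟩ := LinearMap.exists_leftInverse_of_injective F (LinearMap.ker_eq_bot.mpr hF)
  refine ⟨lcoeff k i ∘ₗ (degreeLT k N).subtype ∘ₗ G, fun j hj => ?_⟩
  let P : degreeLT k N := ⟨X ^ j, mem_degreeLT.mpr (by rw [degree_X_pow]; exact_mod_cast hj)⟩
  have e : G (x ^ j) = P := by
    rw [show x ^ j = F P by simp [F, P]]
    exact LinearMap.congr_fun hG P
  simp only [LinearMap.comp_apply, e]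
  simp [P, coeff_X_pow, eq_comm]

/-- An exponent all whose inner binomial coefficients vanish is a power of the exponential characteristic. -/
theorem exists_pow_of_choose (p : ℕ) [hp : ExpChar k p] : ∀ j : ℕ, 0 < j →
    (∀ i, 0 < i → i < j → (Nat.choose j i : k) = 0) → ∃ e, j = p ^ e := by
  intro j
  induction j using Nat.strong_induction_on with
  | _ j ih =>
    intro hj h
    rcases Nat.eq_or_lt_of_le (Nat.succ_le_of_lt hj) with h1 | h1
    · exact ⟨0, by rw [pow_zero]; omega⟩
    have hj0 : (j : k) = 0 := by simpa using h 1 one_pos h1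
    cases hp with
    | zero => exact absurd (Nat.cast_eq_zero.mp hj0) hj.ne'
    | @prime _ hp' hc =>
      haveI := hc
      haveI := Fact.mk hp'
      obtain ⟨j', rfl⟩ := (CharP.cast_eq_zero_iff k p j).mp hj0
      have hj' : 0 < j' := Nat.pos_of_ne_zero fun h0 => by simp [h0] at hj
      obtain ⟨e, he⟩ := ih j' (lt_mul_of_one_lt_left hj' hp'.one_lt) hj' fun i hi hij => by
        have hz := h (p * i) (Nat.mul_pos hp'.pos hi) (Nat.mul_lt_mul_of_pos_left hij hp'.pos)
        rw [CharP.cast_eq_zero_iff k p] at hz ⊢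
        have hm := Choose.choose_modEq_choose_mod_mul_choose_div_nat (n := p * j') (k := p * i) (p := p)
        simp only [Nat.mul_mod_right, Nat.mul_div_cancel_left _ hp'.pos, Nat.choose_self, one_mul] at hm
        exact Nat.modEq_zero_iff_dvd.mp (hm.symm.trans (Nat.modEq_zero_iff_dvd.mpr hz))
      exact ⟨e + 1, by rw [he, pow_succ']⟩

/-- The minimal polynomial of a primitive element has only additive monomials. -/
theorem coeff_choose_eq_zero {Q : Type u} [CommRing Q] [Bialgebra k Q] {x : Q}
    (hx : Coalgebra.comul (R := k) x = x ⊗ₜ[k] (1 : Q) + (1 : Q) ⊗ₜ[k] x) (f : k[X]) (hf : aeval x f = 0)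
    (hind : ∀ P : k[X], P.natDegree < f.natDegree → aeval x P = 0 → P = 0) {i j : ℕ} (hi : 0 < i) (hij : i < j) :
    f.coeff j * (Nat.choose j i : k) = 0 := by
  classical
  set d := f.natDegree with hd
  by_cases hjd : d < j
  · rw [coeff_eq_zero_of_natDegree_lt hjd, zero_mul]
  push Not at hjd
  obtain ⟨φ, hφ⟩ := exists_coeff_fun x d hind i
  let E : Q ⊗[k] Q →ₗ[k] Q := (TensorProduct.lid k Q).toLinearMap ∘ₗ φ.rTensor Q
  have hE : ∀ l ≤ d, E (Coalgebra.comul (R := k) (x ^ l)) =
      (Nat.choose l i : k) • x ^ (l - i) + if l = d then φ (x ^ d) • (1 : Q) else 0 := by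
    intro l hl
    rw [Bialgebra.comul_pow, hx, add_pow, map_sum]
    have e : ∀ r ∈ Finset.range (l + 1), E ((x ⊗ₜ[k] (1 : Q)) ^ r * ((1 : Q) ⊗ₜ[k] x) ^ (l - r) * (Nat.choose l r : Q ⊗[k] Q)) =
        (φ (x ^ r) * (Nat.choose l r : k)) • x ^ (l - r) := by
      intro r _
      rw [Algebra.TensorProduct.tmul_pow, Algebra.TensorProduct.tmul_pow, Algebra.TensorProduct.tmul_mul_tmul,
        mul_comm, ← nsmul_eq_mul, map_nsmul, one_pow, one_pow, mul_one, one_mul]
      simp only [E, LinearMap.comp_apply, LinearMap.rTensor_tmul, LinearEquiv.coe_coe, TensorProduct.lid_tmul]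
      rw [← Nat.cast_smul_eq_nsmul k, smul_smul, mul_comm]
    rw [Finset.sum_congr rfl e]
    have e2 : ∀ r ∈ Finset.range (l + 1), (φ (x ^ r) * (Nat.choose l r : k)) • x ^ (l - r) =
        (if r = i then (Nat.choose l i : k) • x ^ (l - i) else 0) + if r = d then φ (x ^ d) • (1 : Q) else 0 := by
      intro r hr
      rcases eq_or_ne r d with hrd | hrd
      · have hrl : l = d := le_antisymm hl (by have := Finset.mem_range.mp hr; omega)
        rw [hrd, hrl]
        simp [show d ≠ i by omega]
      · rw [hφ r (by have := Finset.mem_range.mp hr; omega), if_neg hrd, add_zero]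
        split
        · next h => subst h; rw [one_mul]
        · simp
    rw [Finset.sum_congr rfl e2, Finset.sum_add_distrib, Finset.sum_ite_eq', Finset.sum_ite_eq']
    congr 1
    · split
      · rfl
      · next h => rw [Finset.mem_range] at h; rw [Nat.choose_eq_zero_of_lt (by omega), Nat.cast_zero, zero_smul]
    · exact if_congr (by rw [Finset.mem_range]; omega) rfl rfl
  let P : k[X] := (∑ l ∈ Finset.range (d + 1), C (f.coeff l * (Nat.choose l i : k)) * X ^ (l - i)) +
    C (f.coeff d * φ (x ^ d))
  have hP : aeval x P = 0 := by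
    have h0 : E (Coalgebra.comul (R := k) (aeval x f)) = 0 := by rw [hf, map_zero, map_zero]
    rw [aeval_eq_sum_range, map_sum, map_sum, ← hd] at h0
    simp only [map_smul] at h0
    rw [Finset.sum_congr rfl fun l hl => by rw [hE l (by simpa [Nat.lt_succ_iff] using hl)]] at h0
    simp only [smul_add, smul_smul, smul_ite, smul_zero, Finset.sum_add_distrib, Finset.sum_ite_eq',
      Finset.self_mem_range_succ, if_true] at h0
    simpa [P, Algebra.smul_def] using h0
  have hPd : P.natDegree < d := by
    refine lt_of_le_of_lt (natDegree_add_le_of_degree_le (natDegree_sum_le_of_forall_le _ _ fun l hl => ?_)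
      ((natDegree_C _).trans_le (Nat.zero_le _))) (show d - 1 < d by omega)
    refine (natDegree_C_mul_X_pow_le _ _).trans ?_
    have := Finset.mem_range.mp hl
    omega
  have h1 := congrArg (fun P => P.coeff (j - i)) (hind P hPd hP)
  simp only [P, coeff_add, finsetSum_coeff, coeff_C_mul_X_pow, coeff_zero, coeff_C_ne_zero (show j - i ≠ 0 by omega),
    add_zero] at h1
  rwa [Finset.sum_eq_single j (fun l _ hl => if_neg (by omega)) (fun h => absurd (Finset.mem_range.mpr (by omega)) h),
    if_pos rfl] at h1

/-- Polynomials with additive monomials are additive. -/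
theorem aeval_add {S : Type u} [CommRing S] [Algebra k S] [Nontrivial S] (p : ℕ) [ExpChar k p] (f : k[X])
    (hf : ∀ j, f.coeff j ≠ 0 → ∃ e, j = p ^ e) (u v : S) : aeval (u + v) f = aeval u f + aeval v f := by
  haveI : ExpChar S p := expChar_of_injective_algebraMap (algebraMap k S).injective p
  rw [aeval_eq_sum_range, aeval_eq_sum_range, aeval_eq_sum_range, ← Finset.sum_add_distrib]
  refine Finset.sum_congr rfl fun j _ => ?_
  rcases eq_or_ne (f.coeff j) 0 with h | h
  · simp [h]
  · obtain ⟨e, rfl⟩ := hf j h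
    rw [add_pow_expChar_pow, smul_add]

variable {M : Type u} [CommGroup M] {A : Type u} [CommRing A] [HopfAlgebra k A]

theorem gl_pow (ψ : MonoidAlgebra k M →ₐc[k] A) (m : M) (n : ℕ) : gl ψ m ^ n = gl ψ (m ^ n) := by
  induction n with
  | zero => rw [pow_zero, pow_zero, gl_one]
  | succ n ih => rw [pow_succ, pow_succ, gl_mul, ih]

theorem gl_sub_one_mem (ψ : MonoidAlgebra k M →ₐc[k] A) (m : M) :
    gl ψ m - 1 ∈ Ideal.map (ψ : MonoidAlgebra k M →+* A) (RingHom.ker (Bialgebra.counitAlgHom k (MonoidAlgebra k M))) := by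
  rw [show gl ψ m - 1 = (ψ : MonoidAlgebra k M →+* A) (MonoidAlgebra.single m 1 - 1) by
    rw [map_sub, map_one]; rfl]
  exact Ideal.mem_map_of_mem _ (RingHom.mem_ker.mpr (by simp))

theorem counit_skew (ψ : MonoidAlgebra k M →ₐc[k] A) {χ : M} {x : A}
    (hx : Coalgebra.comul (R := k) x = x ⊗ₜ[k] gl ψ χ + (1 : A) ⊗ₜ[k] x) : Coalgebra.counit (R := k) x = 0 := by
  have h := congrArg (fun t => Coalgebra.counit (R := k) (TensorProduct.lid k A ((Coalgebra.counit (R := k)).rTensor A t))) hx
  simp only [Coalgebra.rTensor_counit_comul, map_add, LinearMap.rTensor_tmul, TensorProduct.lid_tmul, map_smul,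
    Bialgebra.counit_one, counit_gl, smul_eq_mul, mul_one, one_mul, one_smul] at h
  simpa using h

theorem coeff_one_comul (b : MonoidAlgebra k M) :
    TensorProduct.lid k (MonoidAlgebra k M) ((coeffFun (1 : M)).rTensor (MonoidAlgebra k M) (Coalgebra.comul (R := k) b)) =
      coeffFun (1 : M) b • 1 := by
  classical
  induction b using MonoidAlgebra.induction_linear with
  | zero => simp
  | add x y hx hy => simp only [map_add, hx, hy, add_smul]
  | single m c =>
    rw [show (MonoidAlgebra.single m c : MonoidAlgebra k M) = c • MonoidAlgebra.single m 1 by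
      rw [MonoidAlgebra.smul_single, smul_eq_mul, mul_one], map_smul, comul_single]
    simp only [map_smul, LinearMap.rTensor_tmul, TensorProduct.lid_tmul, coeffFun_single, MonoidAlgebra.one_def]
    split
    · next h => subst h; simp
    · simp

end Groth.Agent.ExtUnipLib
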