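import Groth.Agent.ExtUnipLib.BaseChange
import Mathlib.RingTheory.Unramified.Field
import Mathlib.RingTheory.Artinian.Module
import Mathlib.RingTheory.Noetherian.Basic

/-!
# Extensions of a connected group of multiplicative type by an étale unipotent group
-/

universe u

set_option autoImplicit false
set_option backward.isDefEq.respectTransparency false
set_option backward.isDefEq.respectTransparency.types false

open TensorProduct WithConv

namespace Groth.Agent.ExtUnipLib

open DynLib (post post_apply)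
open scoped DynLib

attribute [-instance] AlgHom.convGroup AlgHom.convInv

variable {k : Type u} [Field k]

/-- The idempotent of the component of a point. -/
theorem exists_component_idempotent {A : Type u} [CommRing A] [Algebra k A] [IsNoetherianRing A] (ε : A →ₐ[k] k) :
    ∃ e : A, IsIdempotentElem e ∧ ε e = 1 ∧
      ∀ z : A ⧸ Ideal.span ({1 - e} : Set A), IsIdempotentElem z → z = 0 ∨ z = 1 := by
  classical
  let S : Set (Ideal A) := {I | ∃ e : A, IsIdempotentElem e ∧ ε e = 1 ∧ Ideal.span {1 - e} = I}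
  obtain ⟨_, ⟨e, he, hεe, rfl⟩, hmax⟩ := set_has_maximal_iff_noetherian.mpr (inferInstance : IsNoetherian A A) S
    ⟨_, 1, IsIdempotentElem.one, map_one ε, rfl⟩
  refine ⟨e, he, hεe, fun z hz => ?_⟩
  obtain ⟨a, rfl⟩ := Ideal.Quotient.mk_surjective z
  have h2 : a * a - a ∈ Ideal.span ({1 - e} : Set A) := Ideal.Quotient.eq.mp ((map_mul _ a a).trans hz)
  obtain ⟨c, hc⟩ := Ideal.mem_span_singleton'.mp h2
  have hee : e * e = e := he
  have hid : IsIdempotentElem (e * a) := by
    show e * a * (e * a) = e * a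
    linear_combination a * a * hee - e * hc + (-c) * hee
  have hkey : ∀ f : A, IsIdempotentElem f → f * e = f → ε f = 1 → f = e := by
    intro f hf hfe hεf
    have hle : Ideal.span ({1 - e} : Set A) ≤ Ideal.span {1 - f} :=
      Ideal.span_singleton_le_span_singleton.mpr ⟨1 - e, by linear_combination -hfe⟩
    rcases eq_or_lt_of_le hle with h | h
    · obtain ⟨c, hc⟩ := Ideal.mem_span_singleton'.mp (h.symm ▸ Ideal.mem_span_singleton_self (1 - f) :
        1 - f ∈ Ideal.span ({1 - e} : Set A))
      linear_combination e * hc - hfe + c * hee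
    · exact absurd h (hmax _ ⟨f, hf, hεf, rfl⟩)
  have hmk : Ideal.Quotient.mk (Ideal.span ({1 - e} : Set A)) e = 1 := by
    rw [← map_one (Ideal.Quotient.mk (Ideal.span ({1 - e} : Set A))), eq_comm, Ideal.Quotient.eq]
    exact Ideal.mem_span_singleton_self _
  have hea : Ideal.Quotient.mk (Ideal.span ({1 - e} : Set A)) (e * a) = Ideal.Quotient.mk _ a := by
    rw [map_mul, hmk, one_mul]
  rcases IsIdempotentElem.iff_eq_zero_or_one.mp (hid.map ε) with h | h
  · left
    have h' := hkey (e - e * a)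
      (by
        show (e - e * a) * (e - e * a) = e - e * a
        linear_combination hee + hid.eq - 2 * a * hee)
      (by linear_combination (1 - a) * hee) (by rw [map_sub, hεe, h, sub_zero])
    rw [← hea, show e * a = 0 by linear_combination -h', map_zero]
  · right
    rw [← hea, hkey (e * a) hid (by linear_combination a * hee) h, hmk]

variable {A B : Type u} [CommRing A] [HopfAlgebra k A] [Algebra.FiniteType k A] [CommRing B] [HopfAlgebra k B]
  [Algebra.FiniteType k B]

/-- A connected group of multiplicative type lifts uniquely to extensions by étale unipotent groups. -/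
theorem existsUnique_retraction_etale (hB : SGA3b.IsMultTypeConst k B) (ψ : B →ₐc[k] A) (hψ : Function.Injective ψ)
    (J : Ideal A) [J.IsHopfIdeal k] (hJ : J = Ideal.map (ψ : B →+* A) (RingHom.ker (Bialgebra.counitAlgHom k B)))
    (hU : HopfRep.IsUnipotent k (A ⧸ J)) [Algebra.Etale k (A ⧸ J)]
    (hH : ∀ e : B, IsIdempotentElem e → e = 0 ∨ e = 1) :
    ∃! r : A →ₐc[k] B, r.comp ψ = BialgHom.id k B := by
  classical
  let K := AlgebraicClosure k
  haveI : IsNoetherianRing A := Algebra.FiniteType.isNoetherianRing k A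
  obtain ⟨e, he, hεe, hconnA⟩ := exists_component_idempotent (Bialgebra.counitAlgHom k A)
  let A' := K ⊗[k] A
  haveI : Algebra.FiniteType K A' := inferInstance
  obtain ⟨M, _, ⟨eB⟩⟩ := isDiag_algClosed (K := K) hB
  let ψ' : MonoidAlgebra K M →ₐc[K] A' := (bc K ψ).comp (eB.symm : MonoidAlgebra K M →ₐc[K] K ⊗[k] B)
  have hψ' : Function.Injective ψ' := (bc_injective ψ hψ).comp eB.symm.injective
  let J' : Ideal A' :=
    Ideal.map (ψ' : MonoidAlgebra K M →+* A') (RingHom.ker (Bialgebra.counitAlgHom K (MonoidAlgebra K M)))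
  haveI : J'.IsHopfIdeal K := TakeuchiLib.isHopfIdeal_map ψ'
  let qK := bc K (Bialgebra.Quotient.mkBialgHom (R := k) J)
  have hJ' : ∀ z, z ∈ J' ↔ qK z = 0 := fun z => by
    rw [← mem_map_bc_iff J ψ hJ]
    have : J' = Ideal.map (bc K ψ : K ⊗[k] B →+* A') (RingHom.ker (Bialgebra.counitAlgHom K (K ⊗[k] B))) := by
      refine le_antisymm (Ideal.map_le_iff_le_comap.mpr fun b hb => ?_) (Ideal.map_le_iff_le_comap.mpr fun b hb => ?_)
      · exact Ideal.mem_map_of_mem (bc K ψ : K ⊗[k] B →+* A') (RingHom.mem_ker.mpr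
          ((CoalgHomClass.counit_comp_apply (eB.symm : MonoidAlgebra K M →ₐc[K] K ⊗[k] B) b).trans hb))
      · have h2 := Ideal.mem_map_of_mem (ψ' : MonoidAlgebra K M →+* A') (RingHom.mem_ker.mpr
          ((CoalgHomClass.counit_comp_apply (eB : K ⊗[k] B →ₐc[K] MonoidAlgebra K M) b).trans hb) :
            eB b ∈ RingHom.ker (Bialgebra.counitAlgHom K (MonoidAlgebra K M)))
        show bc K ψ b ∈ J'
        rw [show bc K ψ b = bc K ψ (eB.symm (eB b)) from congrArg _ (eB.toEquiv.symm_apply_apply b).symm]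
        exact h2
    rw [this]
  have hU' := isUnipotent_bc J ψ hJ hU J' hJ'
  obtain ⟨r, hr⟩ := exists_retraction ψ' hψ' J' rfl hU'
  -- the idempotent of the kernel
  obtain ⟨φ, hφ, hφker⟩ : ∃ φ : A' ⧸ J', IsIdempotentElem φ ∧
      RingHom.ker (Bialgebra.counitAlgHom K (A' ⧸ J')) = Ideal.span {φ} := by
    haveI : Module.Finite K (K ⊗[k] (A ⧸ J)) := Algebra.FormallyUnramified.finite_of_free K _
    haveI : _root_.IsReduced (K ⊗[k] (A ⧸ J)) := Algebra.FormallyUnramified.isReduced_of_field K _
    let f : A' ⧸ J' →ₐ[K] K ⊗[k] (A ⧸ J) := Ideal.Quotient.liftₐ J' (qK : A' →ₐ[K] K ⊗[k] (A ⧸ J)) fun a ha => (hJ' a).mp ha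
    have hf : Function.Injective f := (injective_iff_map_eq_zero f).mpr fun z hz => by
      obtain ⟨a, rfl⟩ := Ideal.Quotient.mk_surjective z
      exact Ideal.Quotient.eq_zero_iff_mem.mpr ((hJ' a).mpr hz)
    haveI : Module.Finite K (A' ⧸ J') := Module.Finite.of_injective f.toLinearMap hf
    haveI : _root_.IsReduced (A' ⧸ J') := isReduced_of_injective f hf
    haveI : IsArtinianRing (A' ⧸ J') := IsArtinianRing.of_finite K _
    haveI : IsSemisimpleRing (A' ⧸ J') := IsArtinianRing.isSemisimpleRing_of_isReduced _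
    obtain ⟨φ, h1, h2⟩ := IsSemisimpleRing.ideal_eq_span_idempotent (RingHom.ker (Bialgebra.counitAlgHom K (A' ⧸ J')))
    exact ⟨φ, h1, h2⟩
  obtain ⟨a₀, ha₀⟩ := Ideal.Quotient.mk_surjective φ
  let P := proj ψ' r
  have hP : ∀ c ∈ J', P.ofConv c = 0 := fun c hc => eq_zero_of_comp_eq_one ψ' P (pre_proj ψ' r hr) hc
  set g := P.ofConv a₀ with hg
  have hgid : IsIdempotentElem g := by
    have h : a₀ * a₀ - a₀ ∈ J' := Ideal.Quotient.eq.mp (by rw [map_mul, ha₀]; exact hφ)
    have := hP _ h
    rw [map_sub, map_mul, sub_eq_zero] at this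
    exact this
  have hrP : ∀ c, r (P.ofConv c) = algebraMap K _ (Coalgebra.counit (R := K) c) := by
    intro c
    have h : post (r : A' →ₐ[K] MonoidAlgebra K M) P = 1 := by
      show post (r : A' →ₐ[K] MonoidAlgebra K M) (proj ψ' r) = 1
      rw [proj, map_mul, map_inv, post_apply, post_apply, AlgHom.comp_id,
        show ((r : A' →ₐ[K] MonoidAlgebra K M).comp ((ψ'.comp r : A' →ₐc[K] A') : A' →ₐ[K] A')) =
          (r : A' →ₐ[K] MonoidAlgebra K M) from AlgHom.ext fun z => hr (r z), inv_mul_cancel]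
    have h2 := AlgHom.congr_fun (congrArg WithConv.ofConv h) c
    rw [convOne_eq] at h2
    exact h2
  have hεφ : Bialgebra.counitAlgHom K (A' ⧸ J') φ = 0 := by
    rw [← RingHom.mem_ker, hφker]; exact Ideal.mem_span_singleton_self φ
  have hεa₀ : Coalgebra.counit (R := K) a₀ = 0 := by
    rw [← CoalgHomClass.counit_comp_apply (Bialgebra.Quotient.mkBialgHom (R := K) J') a₀]
    show Bialgebra.counitAlgHom K (A' ⧸ J') (Ideal.Quotient.mk J' a₀) = 0
    rw [ha₀, hεφ]
  have hkerr : ∀ a, r a = 0 → a ∈ Ideal.span ({g} : Set A') := by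
    intro a ha
    let μ := Ideal.Quotient.mkₐ K (Ideal.span ({g} : Set A'))
    have h : post μ P = 1 := by
      refine WithConv.ofConv_injective (AlgHom.ext fun c => ?_)
      rw [convOne_eq]
      show μ (P.ofConv c) = algebraMap K _ (Coalgebra.counit (R := K) c)
      rw [← AlgHom.commutes μ, ← AlgHom.commutes P.ofConv]
      refine Ideal.Quotient.eq.mpr ?_
      rw [← map_sub]
      obtain ⟨b, hb⟩ := Ideal.mem_span_singleton'.mp (show Ideal.Quotient.mk J' (c - algebraMap K A' (Coalgebra.counit (R := K) c)) ∈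
          Ideal.span {φ} by
        rw [← hφker, RingHom.mem_ker]
        refine (CoalgHomClass.counit_comp_apply (Bialgebra.Quotient.mkBialgHom (R := K) J') _).trans ?_
        simp)
      obtain ⟨b, rfl⟩ := Ideal.Quotient.mk_surjective b
      rw [← ha₀, ← map_mul] at hb
      have h3 := hP _ (Ideal.Quotient.eq.mp hb.symm)
      rw [map_sub, sub_eq_zero, map_mul] at h3
      rw [h3]
      exact Ideal.mem_span_singleton'.mpr ⟨_, rfl⟩
    have h2 : toConv (AlgHom.id K A') = toConv ((ψ'.comp r : A' →ₐc[K] A') : A' →ₐ[K] A') * P := by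
      show _ = _ * proj ψ' r
      rw [proj, mul_inv_cancel_left]
    have h3 := congrArg (post μ) h2
    rw [map_mul, h] at h3
    replace h3 := h3.trans (mul_one (M := WithConv (A' →ₐ[K] A' ⧸ Ideal.span ({g} : Set A')))
      (post μ (toConv ((ψ'.comp r : A' →ₐc[K] A') : A' →ₐ[K] A'))))
    have h4 : μ a = μ (ψ' (r a)) := AlgHom.congr_fun (congrArg WithConv.ofConv h3) a
    rw [ha, map_zero, map_zero] at h4
    exact Ideal.Quotient.eq_zero_iff_mem.mp h4
  -- the component of the neutral element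
  let C₁ := A ⧸ Ideal.span ({1 - e} : Set A)
  let ε₁ : C₁ →ₐ[k] k := Ideal.Quotient.liftₐ _ (Bialgebra.counitAlgHom k A) fun a ha => by
    obtain ⟨c, rfl⟩ := Ideal.mem_span_singleton'.mp ha
    rw [map_mul, map_sub, map_one, hεe, sub_self, mul_zero]
  let τ : A' →ₐ[K] K ⊗[k] C₁ := Algebra.TensorProduct.map (AlgHom.id K K) (Ideal.Quotient.mkₐ k _)
  have hconnτ : ∀ z : K ⊗[k] C₁, IsIdempotentElem z → z = 0 ∨ z = 1 := fun z hz => by
    let f := Algebra.TensorProduct.comm k K C₁
    rcases TakeuchiLib.no_idem_baseChange K hconnA ε₁ (f z) (hz.map f) with h | h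
    · exact Or.inl (f.injective (h.trans (map_zero f).symm))
    · exact Or.inr (f.injective (h.trans (map_one f).symm))
  have hkerτ : ∀ z, τ z = 0 → z ∈ Ideal.span ({1 - (1 : K) ⊗ₜ[k] e} : Set A') := by
    intro z hz
    have hz' : z ∈ RingHom.ker (Algebra.TensorProduct.map (AlgHom.id k K) (Ideal.Quotient.mkₐ k (Ideal.span ({1 - e} : Set A)))) := hz
    rw [Algebra.TensorProduct.lTensor_ker _ Ideal.Quotient.mk_surjective,
      show RingHom.ker (Ideal.Quotient.mkₐ k (Ideal.span ({1 - e} : Set A))) = Ideal.span {1 - e} from Ideal.mk_ker,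
      Ideal.map_span, Set.image_singleton, map_sub, map_one, Algebra.TensorProduct.includeRight_apply] at hz'
    exact hz'
  have hτε : ∀ z, Algebra.TensorProduct.lift (AlgHom.id K K) ((Algebra.ofId k K).comp ε₁) (fun _ _ => Commute.all _ _) (τ z) =
      Coalgebra.counit (R := K) z := by
    intro z
    induction z using TensorProduct.induction_on with
    | zero => simp
    | tmul x a =>
      show x * algebraMap k K (Coalgebra.counit (R := k) a) = _
      rw [TensorProduct.counit_tmul]
      simp [Algebra.smul_def, mul_comm]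
    | add x y hx hy => simp only [map_add, hx, hy]
  have hεg : Coalgebra.counit (R := K) g = 0 := by
    have h := congrArg (Coalgebra.counit (R := K)) (hrP a₀)
    rw [CoalgHomClass.counit_comp_apply, hεa₀, map_zero, map_zero] at h
    exact h
  have hgmem : g ∈ Ideal.span ({1 - (1 : K) ⊗ₜ[k] e} : Set A') := by
    refine hkerτ g ?_
    rcases hconnτ (τ g) (hgid.map τ) with h | h
    · exact h
    · have h' := hτε g
      rw [h, map_one, hεg] at h'
      exact absurd h' one_ne_zero
  have hconnB : ∀ z : MonoidAlgebra K M, IsIdempotentElem z → z = 0 ∨ z = 1 := fun z hz => by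
    rcases TakeuchiLib.noIdem_field hH K (eB.symm z) (hz.map (eB.symm : MonoidAlgebra K M →ₐc[K] K ⊗[k] B)) with h | h
    · exact Or.inl (eB.symm.injective (h.trans (map_zero eB.symm).symm))
    · exact Or.inr (eB.symm.injective (h.trans (map_one eB.symm).symm))
  have hre : r ((1 : K) ⊗ₜ[k] e) = 1 := by
    have hid : IsIdempotentElem ((1 : K) ⊗ₜ[k] e) := by
      show _ * _ = _
      rw [Algebra.TensorProduct.tmul_mul_tmul, one_mul, he.eq]
    rcases hconnB _ (hid.map r) with h | h
    · have h' := congrArg (Coalgebra.counit (R := K)) h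
      rw [CoalgHomClass.counit_comp_apply, map_zero, TensorProduct.counit_tmul,
        show Coalgebra.counit (R := k) e = 1 from hεe] at h'
      simp at h'
    · exact h
  have hspan : ∀ z ∈ Ideal.span ({1 - (1 : K) ⊗ₜ[k] e} : Set A'), r z = 0 := fun z hz => by
    obtain ⟨c, rfl⟩ := Ideal.mem_span_singleton'.mp hz
    rw [map_mul, map_sub, map_one, hre, sub_self, mul_zero]
  have hker : ∀ z, r z = 0 → τ z = 0 := fun z hz => by
    have h : z ∈ Ideal.span ({1 - (1 : K) ⊗ₜ[k] e} : Set A') :=
      (Ideal.span_singleton_le_iff_mem _).mpr hgmem (hkerr z hz)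
    obtain ⟨c, rfl⟩ := Ideal.mem_span_singleton'.mp h
    rw [map_mul, show τ (1 - (1 : K) ⊗ₜ[k] e) = 0 from ?_, mul_zero]
    show τ (1 - (1 : K) ⊗ₜ[k] e) = 0
    rw [map_sub, map_one]
    show (1 : K ⊗[k] C₁) - (1 : K) ⊗ₜ[k] Ideal.Quotient.mk _ e = 0
    rw [Algebra.TensorProduct.one_def, ← TensorProduct.tmul_sub, ← map_one (Ideal.Quotient.mk (Ideal.span ({1 - e} : Set A))),
      ← map_sub, Ideal.Quotient.eq_zero_iff_mem.mpr (Ideal.mem_span_singleton_self _), TensorProduct.tmul_zero]
  let rB : A' →ₐc[K] K ⊗[k] B := (eB.symm : MonoidAlgebra K M →ₐc[K] K ⊗[k] B).comp r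
  have hrB : ∀ b, rB (bc K ψ b) = b := fun b => by
    show eB.symm (r (bc K ψ b)) = b
    have h := hr (eB b)
    rw [show ψ' (eB b) = bc K ψ b from congrArg _ (eB.toEquiv.symm_apply_apply b)] at h
    rw [h]
    exact eB.toEquiv.symm_apply_apply b
  let ψ₁ : B →ₐ[k] C₁ := (Ideal.Quotient.mkₐ k _).comp (ψ : B →ₐ[k] A)
  have hbcτ : ∀ w, τ (bc K ψ w) = LinearMap.lTensor K ψ₁.toLinearMap w := fun w => by
    induction w using TensorProduct.induction_on with
    | zero => simp
    | tmul x b => rfl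
    | add x y hx hy => simp only [map_add, hx, hy]
  have hbij : Function.Bijective (LinearMap.lTensor K ψ₁.toLinearMap) := by
    refine ⟨(injective_iff_map_eq_zero _).mpr fun w hw => ?_, fun y => ?_⟩
    · rw [← hbcτ] at hw
      rw [← hrB w]
      show eB.symm (r (bc K ψ w)) = 0
      rw [hspan _ (hkerτ _ hw), map_zero]
    · obtain ⟨z, rfl⟩ : ∃ z, τ z = y := by
        induction y using TensorProduct.induction_on with
        | zero => exact ⟨0, map_zero τ⟩
        | tmul x c =>
          obtain ⟨c, rfl⟩ := Ideal.Quotient.mk_surjective c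
          exact ⟨x ⊗ₜ[k] c, rfl⟩
        | add p q hp hq =>
          obtain ⟨a, rfl⟩ := hp
          obtain ⟨b, rfl⟩ := hq
          exact ⟨a + b, map_add τ a b⟩
      refine ⟨rB z, ?_⟩
      rw [← hbcτ]
      have h := hker (z - ψ' (r z)) (by rw [map_sub, hr, sub_self])
      rw [map_sub, sub_eq_zero] at h
      exact h.symm
  let e₁ := AlgEquiv.ofBijective ψ₁
    ⟨(Module.FaithfullyFlat.lTensor_injective_iff_injective k K ψ₁.toLinearMap).mp hbij.1,
      (Module.FaithfullyFlat.lTensor_surjective_iff_surjective k K ψ₁.toLinearMap).mp hbij.2⟩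
  let ra : A →ₐ[k] B := e₁.symm.toAlgHom.comp (Ideal.Quotient.mkₐ k _)
  have hra : ∀ a, (1 : K) ⊗ₜ[k] ra a = rB ((1 : K) ⊗ₜ[k] a) := by
    intro a
    have h1 : Ideal.Quotient.mk (Ideal.span ({1 - e} : Set A)) (ψ (ra a)) = Ideal.Quotient.mk _ a :=
      e₁.apply_symm_apply _
    obtain ⟨c, hc⟩ := Ideal.mem_span_singleton'.mp (Ideal.Quotient.eq.mp h1.symm)
    calc (1 : K) ⊗ₜ[k] ra a = rB (bc K ψ ((1 : K) ⊗ₜ[k] ra a)) := (hrB _).symm
      _ = rB ((1 : K) ⊗ₜ[k] ψ (ra a)) := rfl
      _ = rB ((1 : K) ⊗ₜ[k] a) := by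
        rw [← sub_eq_zero, ← map_sub, ← TensorProduct.tmul_sub, show ψ (ra a) - a = -c * (1 - e) by linear_combination hc]
        show eB.symm (r _) = 0
        rw [hspan _ ?_, map_zero]
        refine Ideal.mem_span_singleton'.mpr ⟨(1 : K) ⊗ₜ[k] (-c), ?_⟩
        rw [Algebra.TensorProduct.one_def, ← TensorProduct.tmul_sub, Algebra.TensorProduct.tmul_mul_tmul, one_mul]
  let gs : MultTypeLib.SemiBialgHom k K A (K ⊗[k] B) :=
    (MultTypeLib.SemiBialgHom.ofBialgHom rB).comp (MultTypeLib.SemiBialgHom.baseChange k K A)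
  have hgs : ∀ a, gs.toAlgHom a = (MultTypeLib.SemiBialgHom.baseChange k K B).toAlgHom (ra a) := fun a => (hra a).symm
  let r₀ : A →ₐc[k] B := BialgHom.ofAlgHom ra (AlgHom.ext fun a => by
      have h1 := gs.counit_comp a
      rw [hgs, (MultTypeLib.SemiBialgHom.baseChange k K B).counit_comp] at h1
      exact (algebraMap k K).injective h1) (AlgHom.ext fun a => by
      refine S16065.sq_injective (k' := K) ?_
      have h1 := gs.comul_comp a
      rw [hgs, (MultTypeLib.SemiBialgHom.baseChange k K B).comul_comp] at h1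
      refine Eq.trans ?_ h1.symm
      show MultTypeLib.sq K _ (Algebra.TensorProduct.map ra ra (Coalgebra.comul (R := k) a)) = _
      generalize Coalgebra.comul (R := k) a = z
      induction z using TensorProduct.induction_on with
      | zero => simp
      | add x y hx hy => simp only [map_add, hx, hy]
      | tmul x y => simp [hgs])
  refine ⟨r₀, BialgHom.ext fun b => e₁.symm_apply_apply b, fun s hs => BialgHom.ext fun a => ?_⟩
  have hse : s e = 1 := by
    rcases hH (s e) (he.map s) with h | h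
    · have h' := congrArg (Coalgebra.counit (R := k)) h
      rw [CoalgHomClass.counit_comp_apply, map_zero, show Coalgebra.counit (R := k) e = 1 from hεe] at h'
      exact absurd h' one_ne_zero
    · exact h
  have h1 : Ideal.Quotient.mk (Ideal.span ({1 - e} : Set A)) (ψ (ra a)) = Ideal.Quotient.mk _ a :=
    e₁.apply_symm_apply _
  obtain ⟨c, hc⟩ := Ideal.mem_span_singleton'.mp (Ideal.Quotient.eq.mp h1.symm)
  show s a = ra a
  calc s a = s (ψ (ra a)) := by
        rw [← sub_eq_zero, ← map_sub, ← hc, map_mul, map_sub, map_one, hse, sub_self, mul_zero]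
    _ = ra a := DFunLike.congr_fun hs (ra a)

end Groth.Agent.ExtUnipLib
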