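import Groth.Agent.ExtUnipLib.Good

/-!
# Skew-primitive elements with smooth kernel in split extensions
-/

universe u

set_option autoImplicit false
set_option backward.isDefEq.respectTransparency false
set_option backward.isDefEq.respectTransparency.types false

open TensorProduct WithConv

namespace Groth.Agent.ExtUnipLib

open ComodLib (actF slice)
open LieHopf (dlin Lie)
open ExtMultLib (coeffFun coeffFun_single)
open DynLib (post post_apply)
open scoped DynLib

attribute [-instance] AlgHom.convGroup AlgHom.convInv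

variable {k : Type u} [Field k] {M : Type u} [CommGroup M] {A : Type u} [CommRing A] [HopfAlgebra k A]

theorem eq_zero_of_comp_eq_one (ψ : MonoidAlgebra k M →ₐc[k] A) {S : Type u} [CommRing S] [Algebra k S]
    (F : WithConv (A →ₐ[k] S)) (h : pre ψ F = 1) {a : A}
    (ha : a ∈ Ideal.map (ψ : MonoidAlgebra k M →+* A) (RingHom.ker (Bialgebra.counitAlgHom k (MonoidAlgebra k M)))) :
    F.ofConv a = 0 := by
  refine (Ideal.map_le_iff_le_comap.mpr (fun c hc => ?_) : _ ≤ RingHom.ker F.ofConv.toRingHom) ha
  show F.ofConv (ψ c) = 0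
  have h1 := AlgHom.congr_fun (congrArg WithConv.ofConv h) c
  refine h1.trans ?_
  rw [convOne_eq, ofConv_toConv]
  show algebraMap k S (Coalgebra.counit (R := k) c) = 0
  rw [show Coalgebra.counit (R := k) c = 0 from hc, map_zero]

variable (ψ : MonoidAlgebra k M →ₐc[k] A) (r : A →ₐc[k] MonoidAlgebra k M)

/-- The projection to the kernel of a split extension. -/
noncomputable def proj : WithConv (A →ₐ[k] A) :=
  (toConv ((ψ.comp r : A →ₐc[k] A) : A →ₐ[k] A))⁻¹ * toConv (AlgHom.id k A)

/-- The action of the quotient on the kernel of a split extension. -/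
noncomputable def act : WithConv (A →ₐ[k] A ⊗[k] MonoidAlgebra k M) :=
  (post (Algebra.TensorProduct.includeRight : MonoidAlgebra k M →ₐ[k] A ⊗[k] MonoidAlgebra k M) (toConv (r : A →ₐ[k] MonoidAlgebra k M)))⁻¹ *
    post (Algebra.TensorProduct.includeLeft : A →ₐ[k] A ⊗[k] MonoidAlgebra k M) (proj ψ r) *
    post (Algebra.TensorProduct.includeRight : MonoidAlgebra k M →ₐ[k] A ⊗[k] MonoidAlgebra k M) (toConv (r : A →ₐ[k] MonoidAlgebra k M))

variable (hr : ∀ b, r (ψ b) = b)

include hr in
theorem pre_proj : pre ψ (proj ψ r) = 1 := by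
  rw [proj, map_mul, map_inv, pre_apply, pre_apply, AlgHom.id_comp,
    show (((ψ.comp r : A →ₐc[k] A) : A →ₐ[k] A)).comp (ψ : MonoidAlgebra k M →ₐ[k] A) = (ψ : MonoidAlgebra k M →ₐ[k] A) from
      AlgHom.ext fun b => congrArg ψ (hr b), inv_mul_cancel]

include hr in
theorem pre_act : pre ψ (act ψ r) = 1 := by
  have h1 : pre ψ (post (Algebra.TensorProduct.includeLeft : A →ₐ[k] A ⊗[k] MonoidAlgebra k M) (proj ψ r)) =
      post (Algebra.TensorProduct.includeLeft : A →ₐ[k] A ⊗[k] MonoidAlgebra k M) (pre ψ (proj ψ r)) := rfl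
  rw [act, map_mul, map_mul, map_inv, h1, pre_proj ψ r hr, map_one]
  simp

theorem mkQ_gl {J : Ideal A}
    (hJ : J = Ideal.map (ψ : MonoidAlgebra k M →+* A) (RingHom.ker (Bialgebra.counitAlgHom k (MonoidAlgebra k M))))
    (b : MonoidAlgebra k M) : Ideal.Quotient.mkₐ k J (ψ b) = algebraMap k _ (Coalgebra.counit (R := k) b) := by
  rw [← AlgHom.commutes (Ideal.Quotient.mkₐ k J)]
  refine Ideal.Quotient.eq.mpr (hJ ▸ ?_)
  rw [show ψ b - algebraMap k A (Coalgebra.counit (R := k) b) =
    (ψ : MonoidAlgebra k M →+* A) (b - algebraMap k _ (Coalgebra.counit (R := k) b)) by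
      rw [map_sub]
      exact congrArg (ψ b - ·) ((ψ : MonoidAlgebra k M →ₐ[k] A).commutes _).symm]
  exact Ideal.mem_map_of_mem _ (RingHom.mem_ker.mpr (by simp))

theorem mkQ_proj {J : Ideal A} [J.IsHopfIdeal k]
    (hJ : J = Ideal.map (ψ : MonoidAlgebra k M →+* A) (RingHom.ker (Bialgebra.counitAlgHom k (MonoidAlgebra k M))))
    (a : A) : Ideal.Quotient.mkₐ k J ((proj ψ r).ofConv a) = Ideal.Quotient.mkₐ k J a := by
  let q := Ideal.Quotient.mkₐ k J
  have h : post q (proj ψ r) = toConv q := by
    rw [proj, map_mul, map_inv, post_apply, post_apply, AlgHom.comp_id,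
      show (toConv (q.comp ((ψ.comp r : A →ₐc[k] A) : A →ₐ[k] A)) : WithConv (A →ₐ[k] A ⧸ J)) = 1 from
        WithConv.ofConv_injective (AlgHom.ext fun a => by
          show q (ψ (r a)) = _
          rw [mkQ_gl ψ hJ, CoalgHomClass.counit_comp_apply, convOne_eq]
          rfl), inv_one, one_mul]
  exact AlgHom.congr_fun (congrArg WithConv.ofConv h) a

theorem comul_proj : post (Bialgebra.comulAlgHom k A) (proj ψ r) =
    post (Algebra.TensorProduct.map (AlgHom.id k A) (ψ : MonoidAlgebra k M →ₐ[k] A)) (act ψ r) *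
      post (Algebra.TensorProduct.includeRight : A →ₐ[k] A ⊗[k] A) (proj ψ r) := by
  let i1 : A →ₐ[k] A ⊗[k] A := Algebra.TensorProduct.includeLeft
  let i2 : A →ₐ[k] A ⊗[k] A := Algebra.TensorProduct.includeRight
  let s : A →ₐc[k] A := ψ.comp r
  let sa : A →ₐ[k] A := (s : A →ₐ[k] A)
  have hΔs : post (Bialgebra.comulAlgHom k A) (toConv sa) = post i1 (toConv sa) * post i2 (toConv sa) := by
    have e : post (Bialgebra.comulAlgHom k A) (toConv sa) =
        post (Algebra.TensorProduct.map sa sa) (toConv (Bialgebra.comulAlgHom k A)) :=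
      WithConv.ofConv_injective (AlgHom.ext fun a => (CoalgHomClass.map_comp_comul_apply s a).symm)
    rw [e, comul_eq_mul, map_mul]
    congr 1
    · exact WithConv.ofConv_injective (AlgHom.ext fun a => by simp [post, i1])
    · exact WithConv.ofConv_injective (AlgHom.ext fun a => by simp [post, i2])
  have hι : post i1 (proj ψ r) = (post i1 (toConv sa))⁻¹ * toConv i1 := by
    rw [proj, map_mul, map_inv]; rfl
  have hι2 : post i2 (proj ψ r) = (post i2 (toConv sa))⁻¹ * toConv i2 := by
    rw [proj, map_mul, map_inv]; rfl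
  have hact : post (Algebra.TensorProduct.map (AlgHom.id k A) (ψ : MonoidAlgebra k M →ₐ[k] A)) (act ψ r) =
      (post i2 (toConv sa))⁻¹ * post i1 (proj ψ r) * post i2 (toConv sa) := by
    rw [act, map_mul, map_mul, map_inv]
    have e1 : ∀ f : WithConv (A →ₐ[k] A), post (Algebra.TensorProduct.map (AlgHom.id k A) (ψ : MonoidAlgebra k M →ₐ[k] A))
        (post (Algebra.TensorProduct.includeLeft : A →ₐ[k] A ⊗[k] MonoidAlgebra k M) f) = post i1 f := fun f =>
      WithConv.ofConv_injective (AlgHom.ext fun a => by simp [post, i1])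
    have e2 : post (Algebra.TensorProduct.map (AlgHom.id k A) (ψ : MonoidAlgebra k M →ₐ[k] A))
        (post (Algebra.TensorProduct.includeRight : MonoidAlgebra k M →ₐ[k] A ⊗[k] MonoidAlgebra k M)
          (toConv (r : A →ₐ[k] MonoidAlgebra k M))) = post i2 (toConv sa) :=
      WithConv.ofConv_injective (AlgHom.ext fun a => by simp [post, i2, sa, s])
    rw [e1, e2]
  show _ = _ * post i2 (proj ψ r)
  rw [hact, hι2, hι]
  show post (Bialgebra.comulAlgHom k A) ((toConv sa)⁻¹ * toConv (AlgHom.id k A)) = _
  rw [map_mul, map_inv, hΔs, show post (Bialgebra.comulAlgHom k A) (toConv (AlgHom.id k A)) =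
    toConv (Bialgebra.comulAlgHom k A) from rfl, comul_eq_mul]
  group
  rfl

include hr in
/-- Primitive elements of the kernel lift to skew-primitive elements. -/
theorem exists_lift [IsAlgClosed k] [Algebra.FiniteType k A] {J : Ideal A} [J.IsHopfIdeal k]
    (hJ : J = Ideal.map (ψ : MonoidAlgebra k M →+* A) (RingHom.ker (Bialgebra.counitAlgHom k (MonoidAlgebra k M))))
    {w : A ⧸ J} (hw : Coalgebra.comul (R := k) w = w ⊗ₜ[k] (1 : A ⧸ J) + (1 : A ⧸ J) ⊗ₜ[k] w)
    (D : Lie k (A ⧸ J)) (hD : dlin D w ≠ 0) :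
    ∃ (χ : M) (x : A), Coalgebra.comul (R := k) x = x ⊗ₜ[k] gl ψ χ + (1 : A) ⊗ₜ[k] x ∧
      dlin D (Ideal.Quotient.mkₐ k J x) ≠ 0 := by
  classical
  obtain ⟨a, rfl⟩ := Ideal.Quotient.mk_surjective w
  let q := Ideal.Quotient.mkₐ k J
  let y := (proj ψ r).ofConv a
  let z := (act ψ r).ofConv a
  let ψl : MonoidAlgebra k M →ₗ[k] A := (ψ : MonoidAlgebra k M →ₐ[k] A).toLinearMap
  let G : WithConv (A →ₐ[k] A ⊗[k] A) :=
    post (Algebra.TensorProduct.map (AlgHom.id k A) (ψ : MonoidAlgebra k M →ₐ[k] A)) (act ψ r)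
  let P2 : WithConv (A →ₐ[k] A ⊗[k] A) := post (Algebra.TensorProduct.includeRight : A →ₐ[k] A ⊗[k] A) (proj ψ r)
  have hGJ : ∀ c ∈ J, G.ofConv c = 0 := fun c hc => by
    show Algebra.TensorProduct.map _ _ ((act ψ r).ofConv c) = 0
    rw [eq_zero_of_comp_eq_one ψ (act ψ r) (pre_act ψ r hr) (hJ ▸ hc), map_zero]
  have hPJ : ∀ c ∈ J, P2.ofConv c = 0 := fun c hc => by
    show (Algebra.TensorProduct.includeRight : A →ₐ[k] A ⊗[k] A) ((proj ψ r).ofConv c) = 0
    rw [eq_zero_of_comp_eq_one ψ (proj ψ r) (pre_proj ψ r hr) (hJ ▸ hc), map_zero]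
  have hΔy : Coalgebra.comul (R := k) y = ψl.lTensor A z + (1 : A) ⊗ₜ[k] y := by
    refine (AlgHom.congr_fun (congrArg WithConv.ofConv (comul_proj ψ r)) a).trans ?_
    show (toConv G.ofConv * toConv P2.ofConv).ofConv a = _
    rw [GrpSchLib.HopfQuot.convMul_apply]
    let F1 : A ⧸ J →ₐ[k] A ⊗[k] A := Ideal.Quotient.liftₐ J G.ofConv hGJ
    let F2 : A ⧸ J →ₐ[k] A ⊗[k] A := Ideal.Quotient.liftₐ J P2.ofConv hPJ
    have e : ∀ c : A ⊗[k] A, Algebra.TensorProduct.map G.ofConv P2.ofConv c =
        Algebra.TensorProduct.map F1 F2 (Algebra.TensorProduct.map q q c) := fun c => by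
      induction c using TensorProduct.induction_on with
      | zero => simp
      | tmul p t => rfl
      | add p t hp ht => simp only [map_add, hp, ht]
    have e2 : Algebra.TensorProduct.map q q (Coalgebra.comul (R := k) a) = q a ⊗ₜ[k] 1 + 1 ⊗ₜ[k] q a :=
      (CoalgHomClass.map_comp_comul_apply (Bialgebra.Quotient.mkBialgHom (R := k) J) a).trans hw
    rw [e, e2, map_add, map_add, Algebra.TensorProduct.map_tmul, Algebra.TensorProduct.map_tmul, map_one, map_one,
      Algebra.TensorProduct.lmul'_apply_tmul, Algebra.TensorProduct.lmul'_apply_tmul, mul_one, one_mul]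
    rfl
  have hqy : q y = q a := mkQ_proj ψ r hJ a
  obtain ⟨π, hπ⟩ := LinearMap.exists_leftInverse_of_injective ψl (LinearMap.ker_eq_bot.mpr
    (Function.LeftInverse.injective hr))
  have hπ' : ∀ b, π (ψ b) = b := LinearMap.congr_fun hπ
  let φ : M → A →ₗ[k] k := fun n => coeffFun n ∘ₗ π
  have hφ : ∀ n n' : M, φ n (gl ψ n') = if n' = n then 1 else 0 := fun n n' => by
    show coeffFun n (π (ψ _)) = _
    rw [hπ', coeffFun_single]
  have hskew : ∀ m, Coalgebra.comul (R := k) (slice (coeffFun m) z) =
      slice (coeffFun m) z ⊗ₜ[k] gl ψ m + (1 : A) ⊗ₜ[k] slice (coeffFun m) z := by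
    intro m
    have h1 : actF (φ m) y = slice (coeffFun m) z + φ m y • (1 : A) := by
      rw [ComodLib.actF_apply, show HopfRep.Comod.coact (k := k) (A := A) y = Coalgebra.comul (R := k) y from rfl,
        hΔy, map_add, ComodLib.slice_tmul]
      congr 1
      clear hΔy
      induction z using TensorProduct.induction_on with
      | zero => simp
      | tmul p t => simp [φ, ψl, hπ']
      | add p t hp ht => simp only [map_add, hp, ht]
    have h2 : Coalgebra.comul (R := k) (actF (φ m) y) =
        slice (coeffFun m) z ⊗ₜ[k] gl ψ m + (1 : A) ⊗ₜ[k] actF (φ m) y := by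
      refine (TakeuchiLib.coact_actF (V := A) (φ m) y).trans ?_
      rw [show HopfRep.Comod.coact (k := k) (A := A) y = Coalgebra.comul (R := k) y from rfl, hΔy, map_add,
        LinearMap.lTensor_tmul]
      congr 1
      clear hΔy h1
      induction z using TensorProduct.induction_on with
      | zero => simp
      | add p t hp ht => simp only [map_add, hp, ht, TensorProduct.add_tmul]
      | tmul p t =>
        induction t using MonoidAlgebra.induction_linear with
        | zero => simp
        | add t t' ht ht' => simp only [TensorProduct.tmul_add, map_add, ht, ht', TensorProduct.add_tmul]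
        | single n c =>
          simp only [LinearMap.lTensor_tmul, LinearMap.comp_apply, ψl, AlgHom.toLinearMap_apply, BialgHom.coe_toAlgHom,
            apply_eq_smul_gl, map_smul, comul_gl, ComodLib.slice_tmul, coeffFun_single, hφ, ite_smul, one_smul, zero_smul]
          split
          · next h => subst h; simp [TensorProduct.smul_tmul]
          · simp
    rw [h1, map_add, map_smul, Bialgebra.comul_one, Algebra.TensorProduct.one_def, TensorProduct.tmul_add,
      TensorProduct.tmul_smul, ← add_assoc, add_left_inj] at h2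
    exact h2
  by_contra hcon
  push Not at hcon
  let d : A →ₗ[k] k := dlin D ∘ₗ q.toLinearMap
  let E : A ⊗[k] MonoidAlgebra k M →ₗ[k] MonoidAlgebra k M :=
    (TensorProduct.lid k (MonoidAlgebra k M)).toLinearMap ∘ₗ d.rTensor (MonoidAlgebra k M)
  have hE : E z = 0 := by
    refine (bM k M).ext_elem fun m => ?_
    rw [map_zero, Finsupp.zero_apply, ← Module.Basis.coord_apply, bM_coord, ← show d (slice (coeffFun m) z) = 0 from hcon m _ (hskew m)]
    clear hΔy hskew hcon
    induction z using TensorProduct.induction_on with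
    | zero => simp
    | tmul p t => simp [E, d, mul_comm]
    | add p t hp ht => simp only [map_add, hp, ht]
  refine hD ?_
  have hε : slice (Coalgebra.counit (R := k)) z = y := by
    have h : post ((Algebra.TensorProduct.rid k k A).toAlgHom.comp
        (Algebra.TensorProduct.map (AlgHom.id k A) (Bialgebra.counitAlgHom k (MonoidAlgebra k M)))) (act ψ r) = proj ψ r := by
      rw [act, map_mul, map_mul, map_inv]
      have e1 : ∀ f : WithConv (A →ₐ[k] A), post ((Algebra.TensorProduct.rid k k A).toAlgHom.comp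
          (Algebra.TensorProduct.map (AlgHom.id k A) (Bialgebra.counitAlgHom k (MonoidAlgebra k M))))
            (post (Algebra.TensorProduct.includeLeft : A →ₐ[k] A ⊗[k] MonoidAlgebra k M) f) = f := fun f =>
        WithConv.ofConv_injective (AlgHom.ext fun c => by simp [post])
      have e2 : post ((Algebra.TensorProduct.rid k k A).toAlgHom.comp
          (Algebra.TensorProduct.map (AlgHom.id k A) (Bialgebra.counitAlgHom k (MonoidAlgebra k M))))
            (post (Algebra.TensorProduct.includeRight : MonoidAlgebra k M →ₐ[k] A ⊗[k] MonoidAlgebra k M)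
              (toConv (r : A →ₐ[k] MonoidAlgebra k M))) = 1 :=
        WithConv.ofConv_injective (AlgHom.ext fun c => by
          simp [post, convOne_eq, Algebra.algebraMap_eq_smul_one, CoalgHomClass.counit_comp_apply])
      rw [e1, e2, inv_one, one_mul, mul_one]
    refine Eq.trans ?_ (AlgHom.congr_fun (congrArg WithConv.ofConv h) a)
    show _ = (Algebra.TensorProduct.rid k k A).toAlgHom (Algebra.TensorProduct.map (AlgHom.id k A) (Bialgebra.counitAlgHom k (MonoidAlgebra k M)) z)
    clear hΔy hskew hcon hE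
    induction z using TensorProduct.induction_on with
    | zero => simp
    | tmul p t => simp
    | add p t hp ht => simp only [map_add, hp, ht]
  have h3 : d y = Coalgebra.counit (R := k) (E z) := by
    rw [← hε]
    clear hΔy hskew hcon hE hε
    induction z using TensorProduct.induction_on with
    | zero => simp
    | tmul p t => simp [E, d, mul_comm]
    | add p t hp ht => simp only [map_add, hp, ht]
  rw [hE, map_zero] at h3
  show dlin D (q a) = 0
  rw [← hqy]
  exact h3

end Groth.Agent.ExtUnipLib
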