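import Groth.Agent.ExtUnipLib.Additive

/-!
# Normalizing a skew-primitive element
-/

universe u

set_option autoImplicit false
set_option backward.isDefEq.respectTransparency false
set_option backward.isDefEq.respectTransparency.types false

open TensorProduct WithConv Polynomial

namespace Groth.Agent.ExtUnipLib

open ComodLib (actF slice)
open ExtMultLib (coeffFun coeffFun_single)

variable {k : Type u} [Field k] {M : Type u} [CommGroup M] {A : Type u} [CommRing A] [HopfAlgebra k A]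

theorem slice_sum_aeval {Q : Type u} [CommRing Q] [Algebra k Q] (φ : Q →ₗ[k] k) (a : A) (x : Q) (f : k[X]) :
    slice φ (aeval (a ⊗ₜ[k] x) f) = ∑ l ∈ Finset.range (f.natDegree + 1), (f.coeff l * φ (x ^ l)) • a ^ l := by
  rw [aeval_eq_sum_range, map_sum]
  refine Finset.sum_congr rfl fun l _ => ?_
  rw [map_smul, Algebra.TensorProduct.tmul_pow, ComodLib.slice_tmul, smul_smul]

/-- The conjugation action of the quotient on a skew-primitive element. -/
theorem coeff_gl_eq (ψ : MonoidAlgebra k M →ₐc[k] A) {J : Ideal A} [J.IsHopfIdeal k]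
    (hJ : J = Ideal.map (ψ : MonoidAlgebra k M →+* A) (RingHom.ker (Bialgebra.counitAlgHom k (MonoidAlgebra k M))))
    {χ : M} {x : A} (hx : Coalgebra.comul (R := k) x = x ⊗ₜ[k] gl ψ χ + (1 : A) ⊗ₜ[k] x) (f : k[X]) (hfm : f.Monic)
    (hf : aeval (Ideal.Quotient.mkₐ k J x) f = 0)
    (hind : ∀ P : k[X], P.natDegree < f.natDegree → aeval (Ideal.Quotient.mkₐ k J x) P = 0 → P = 0) (j : ℕ) :
    f.coeff j • gl ψ (χ⁻¹ ^ j) = f.coeff j • gl ψ (χ⁻¹ ^ f.natDegree) := by
  classical
  set d := f.natDegree with hd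
  rcases lt_trichotomy j d with hjd | hjd | hjd
  swap
  · rw [hjd]
  swap
  · rw [coeff_eq_zero_of_natDegree_lt hjd, zero_smul, zero_smul]
  let q := Ideal.Quotient.mkₐ k J
  let S := HopfAlgebra.antipodeAlgHom k A
  let L : A →ₐ[k] A ⊗[k] (A ⧸ J) := Algebra.TensorProduct.includeLeft
  let Rq : A →ₐ[k] A ⊗[k] (A ⧸ J) := (Algebra.TensorProduct.includeRight : A ⧸ J →ₐ[k] A ⊗[k] (A ⧸ J)).comp q
  let G : A →ₐ[k] A ⊗[k] (A ⧸ J) := (toConv L * toConv Rq * toConv (L.comp S)).ofConv
  have hq : ∀ m, q (gl ψ m) = 1 := fun m => by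
    rw [← map_one q]
    exact Ideal.Quotient.eq.mpr (hJ ▸ gl_sub_one_mem ψ m)
  have hmul : ∀ (F1 F2 : A →ₐ[k] A ⊗[k] (A ⧸ J)) (a b c e : A),
      Coalgebra.comul (R := k) a = b ⊗ₜ[k] c + (1 : A) ⊗ₜ[k] e →
      (toConv F1 * toConv F2).ofConv a = F1 b * F2 c + F2 e := by
    intro F1 F2 a b c e h
    rw [GrpSchLib.HopfQuot.convMul_apply, h, map_add]
    simp
  have hgl : ∀ (F1 F2 : A →ₐ[k] A ⊗[k] (A ⧸ J)) (m : M),
      (toConv F1 * toConv F2).ofConv (gl ψ m) = F1 (gl ψ m) * F2 (gl ψ m) := by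
    intro F1 F2 m
    rw [GrpSchLib.HopfQuot.convMul_apply, comul_gl]
    simp
  have hS : ∀ m, S (gl ψ m) = gl ψ m⁻¹ := fun m => by
    have h := HopfAlgebra.mul_antipode_rTensor_comul_apply (R := k) (gl ψ m)
    rw [comul_gl, LinearMap.rTensor_tmul, LinearMap.mul'_apply, counit_gl, map_one] at h
    calc S (gl ψ m) = S (gl ψ m) * (gl ψ m * gl ψ m⁻¹) := by rw [mul_comm (gl ψ m), gl_inv_mul, mul_one]
      _ = gl ψ m⁻¹ := by rw [← mul_assoc]; exact (congrArg (· * gl ψ m⁻¹) h).trans (one_mul _)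
  have hSx : S x = -(x * gl ψ χ⁻¹) := by
    have h := HopfAlgebra.mul_antipode_rTensor_comul_apply (R := k) x
    rw [hx, map_add, map_add, LinearMap.rTensor_tmul, LinearMap.rTensor_tmul, LinearMap.mul'_apply,
      LinearMap.mul'_apply, HopfAlgebra.antipode_one, one_mul, counit_skew ψ hx, map_zero] at h
    change S x * gl ψ χ + x = 0 at h
    have h2 : S x * gl ψ χ = -x := eq_neg_of_add_eq_zero_left h
    calc S x = S x * (gl ψ χ * gl ψ χ⁻¹) := by rw [mul_comm (gl ψ χ), gl_inv_mul, mul_one]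
      _ = -(x * gl ψ χ⁻¹) := by rw [← mul_assoc, h2, neg_mul]
  have hGx : G x = gl ψ χ⁻¹ ⊗ₜ[k] q x := by
    show (toConv (toConv L * toConv Rq).ofConv * toConv (L.comp S)).ofConv x = _
    rw [hmul _ _ x x (gl ψ χ) x hx, hmul _ _ x x (gl ψ χ) x hx]
    simp only [L, Rq, AlgHom.comp_apply, Algebra.TensorProduct.includeLeft_apply,
      Algebra.TensorProduct.includeRight_apply, hq, hS, hSx, Algebra.TensorProduct.tmul_mul_tmul, add_mul,
      TensorProduct.neg_tmul, mul_one, one_mul]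
    abel
  have hGψ : G.comp (ψ : MonoidAlgebra k M →ₐ[k] A) = (Algebra.ofId k _).comp (Bialgebra.counitAlgHom k (MonoidAlgebra k M)) := by
    refine AlgHom.ext fun b => ?_
    induction b using MonoidAlgebra.induction_linear with
    | zero => simp
    | add a b ha hb => rw [map_add, map_add, ha, hb]
    | single m c =>
      show G (ψ (MonoidAlgebra.single m c)) = algebraMap k _ (Coalgebra.counit (R := k) (MonoidAlgebra.single m c))
      rw [apply_eq_smul_gl, map_smul]
      have : G (gl ψ m) = 1 := by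
        show (toConv (toConv L * toConv Rq).ofConv * toConv (L.comp S)).ofConv (gl ψ m) = _
        rw [hgl, hgl]
        simp only [L, Rq, AlgHom.comp_apply, Algebra.TensorProduct.includeLeft_apply,
          Algebra.TensorProduct.includeRight_apply, hq, hS, Algebra.TensorProduct.tmul_mul_tmul, mul_one]
        rw [mul_comm, gl_inv_mul, Algebra.TensorProduct.one_def]
      rw [this, Algebra.algebraMap_eq_smul_one]
      simp
  have hGJ : ∀ a ∈ J, G a = 0 := by
    intro a ha
    rw [hJ] at ha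
    refine (Ideal.map_le_iff_le_comap.mpr (fun c hc => ?_) : _ ≤ RingHom.ker G.toRingHom) ha
    show G (ψ c) = 0
    refine (AlgHom.congr_fun hGψ c).trans ?_
    show algebraMap k (A ⊗[k] (A ⧸ J)) (Coalgebra.counit (R := k) c) = 0
    rw [show Coalgebra.counit (R := k) c = 0 from hc, map_zero]
  have h0 : aeval (gl ψ χ⁻¹ ⊗ₜ[k] q x) f = 0 := by
    rw [← hGx, Polynomial.aeval_algHom_apply]
    exact hGJ _ (Ideal.Quotient.eq_zero_iff_mem.mp ((Polynomial.aeval_algHom_apply q x f).symm.trans hf))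
  obtain ⟨φ, hφ⟩ := exists_coeff_fun (q x) d hind j
  have hd1 : φ (q x ^ d) = -f.coeff j := by
    have h := congrArg φ hf
    rw [aeval_eq_sum_range, map_sum, map_zero, ← hd, Finset.sum_range_succ] at h
    rw [Finset.sum_congr rfl fun l hl => by rw [map_smul, hφ l (Finset.mem_range.mp hl)]] at h
    simp only [smul_eq_mul, mul_ite, mul_one, mul_zero, Finset.sum_ite_eq', Finset.mem_range, if_pos hjd, map_smul] at h
    rw [show f.coeff d = 1 from hfm.coeff_natDegree, one_mul] at h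
    exact eq_neg_of_add_eq_zero_right h
  have h1 := congrArg (slice φ) h0
  rw [slice_sum_aeval, map_zero, ← hd, Finset.sum_range_succ] at h1
  rw [Finset.sum_congr rfl fun l hl => by rw [hφ l (Finset.mem_range.mp hl)]] at h1
  simp only [mul_ite, mul_one, mul_zero, ite_smul, zero_smul, Finset.sum_ite_eq', Finset.mem_range, if_pos hjd] at h1
  rw [show f.coeff d = 1 from hfm.coeff_natDegree, one_mul, hd1, neg_smul, ← sub_eq_add_neg, sub_eq_zero,
    gl_pow, gl_pow] at h1
  exact h1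

/-- A skew-primitive element can be moved so that it satisfies the same relations as its restriction. -/
theorem exists_normalized [IsAlgClosed k] [Algebra.FiniteType k A] [Algebra.FiniteType k (MonoidAlgebra k M)]
    (ψ : MonoidAlgebra k M →ₐc[k] A) (hψ : Function.Injective ψ) {J : Ideal A} [J.IsHopfIdeal k]
    (hJ : J = Ideal.map (ψ : MonoidAlgebra k M →+* A) (RingHom.ker (Bialgebra.counitAlgHom k (MonoidAlgebra k M))))
    {χ : M} {x : A} (hxR : x ∉ Set.range ψ)
    (hx : Coalgebra.comul (R := k) x = x ⊗ₜ[k] gl ψ χ + (1 : A) ⊗ₜ[k] x) :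
    ∃ x' : A, x' ∉ Set.range ψ ∧ Coalgebra.comul (R := k) x' = x' ⊗ₜ[k] gl ψ χ + (1 : A) ⊗ₜ[k] x' ∧
      (∀ P : k[X], aeval (Ideal.Quotient.mkₐ k J x') P = 0 → aeval x' P = 0) ∧
      Ideal.Quotient.mkₐ k J x' = Ideal.Quotient.mkₐ k J x := by
  classical
  let q := Ideal.Quotient.mkₐ k J
  by_cases halg : ∀ P : k[X], aeval (q x) P = 0 → P = 0
  · exact ⟨x, hxR, hx, fun P hP => by rw [halg P hP, map_zero], rfl⟩
  push Not at halg
  obtain ⟨P0, hP0, hP0'⟩ := halg
  have hint : IsIntegral k (q x) := IsAlgebraic.isIntegral ⟨P0, hP0', hP0⟩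
  let f := minpoly k (q x)
  have hfm : f.Monic := minpoly.monic hint
  have hf : aeval (q x) f = 0 := minpoly.aeval k _
  have hind : ∀ P : k[X], P.natDegree < f.natDegree → aeval (q x) P = 0 → P = 0 := fun P hP hP' => by
    by_contra h
    exact absurd (Polynomial.natDegree_le_of_dvd (minpoly.dvd k _ hP') h) (not_le.mpr hP)
  haveI : Nontrivial (A ⧸ J) := (Bialgebra.counitAlgHom k (A ⧸ J)).toRingHom.domain_nontrivial
  haveI : Nontrivial A := (Bialgebra.counitAlgHom k A).toRingHom.domain_nontrivial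
  have hd : 0 < f.natDegree := minpoly.natDegree_pos hint
  have hqgl : ∀ m, q (gl ψ m) = 1 := fun m => by
    rw [← map_one q]
    exact Ideal.Quotient.eq.mpr (hJ ▸ gl_sub_one_mem ψ m)
  have hq : Coalgebra.comul (R := k) (q x) = q x ⊗ₜ[k] (1 : A ⧸ J) + (1 : A ⧸ J) ⊗ₜ[k] q x := by
    show Coalgebra.comul (R := k) (Bialgebra.Quotient.mkBialgHom (R := k) J x) = _
    rw [← CoalgHomClass.map_comp_comul_apply, hx, map_add, TensorProduct.map_tmul, TensorProduct.map_tmul]
    show q x ⊗ₜ[k] q (gl ψ χ) + q 1 ⊗ₜ[k] q x = _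
    rw [hqgl, map_one]
  have h0 : f.coeff 0 = 0 := by
    have h := congrArg (Bialgebra.counitAlgHom k (A ⧸ J)) hf
    rw [← Polynomial.aeval_algHom_apply, map_zero,
      show Bialgebra.counitAlgHom k (A ⧸ J) (q x) = 0 from
        (CoalgHomClass.counit_comp_apply (Bialgebra.Quotient.mkBialgHom (R := k) J) x).trans (counit_skew ψ hx),
      ← Polynomial.coeff_zero_eq_aeval_zero] at h
    exact h
  let p := ringExpChar k
  have hadd : ∀ j, f.coeff j ≠ 0 → ∃ e, j = p ^ e := fun j hj =>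
    exists_pow_of_choose p j (Nat.pos_of_ne_zero fun h => hj (h ▸ h0)) fun i hi hij =>
      (mul_eq_zero.mp (coeff_choose_eq_zero hq f hf hind hi hij)).resolve_left hj
  let F : A →+ A :=
    AddMonoidHom.mk' (fun u => aeval u f) (fun u v => aeval_add p f hadd u v)
  set e := χ ^ f.natDegree with he
  have hcl : ∀ j, f.coeff j • gl ψ (χ ^ j) = f.coeff j • gl ψ e := by
    intro j
    rcases eq_or_ne (f.coeff j) 0 with h | h
    · rw [h, zero_smul, zero_smul]
    · have h1 := coeff_gl_eq ψ hJ hx f hfm hf hind j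
      rw [gl, gl, ← map_smul, ← map_smul] at h1
      have h2 := hψ h1
      rw [MonoidAlgebra.smul_single, MonoidAlgebra.smul_single] at h2
      have h3 : (χ⁻¹) ^ j = (χ⁻¹) ^ f.natDegree :=
        MonoidAlgebra.single_left_injective (R := k) (r := f.coeff j • (1 : k)) (by simp [h]) h2
      rw [inv_pow, inv_pow, inv_inj] at h3
      rw [he, h3]
  set y := aeval x f with hy
  have hyJ : y ∈ J := Ideal.Quotient.eq_zero_iff_mem.mp ((Polynomial.aeval_algHom_apply q x f).symm.trans hf)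
  have hΔy : Coalgebra.comul (R := k) y = y ⊗ₜ[k] gl ψ e + (1 : A) ⊗ₜ[k] y := by
    show Bialgebra.comulAlgHom k A y = _
    rw [hy, ← Polynomial.aeval_algHom_apply, show Bialgebra.comulAlgHom k A x = x ⊗ₜ[k] gl ψ χ + (1 : A) ⊗ₜ[k] x from hx]
    haveI : Nontrivial (A ⊗[k] A) := ((Algebra.TensorProduct.lift (Bialgebra.counitAlgHom k A) (Bialgebra.counitAlgHom k A)
      fun _ _ => Commute.all _ _).toRingHom).domain_nontrivial
    rw [aeval_add p f hadd, ← Algebra.TensorProduct.includeRight_apply (R := k) (A := A) x,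
      Polynomial.aeval_algHom_apply, Algebra.TensorProduct.includeRight_apply]
    congr 1
    rw [aeval_eq_sum_range, aeval_eq_sum_range, TensorProduct.sum_tmul]
    refine Finset.sum_congr rfl fun l _ => ?_
    rw [Algebra.TensorProduct.tmul_pow, gl_pow, ← TensorProduct.tmul_smul, hcl, TensorProduct.tmul_smul,
      TensorProduct.smul_tmul']
  obtain ⟨b, hb⟩ := TakeuchiLib.mem_range_of_invariant ψ hψ y (by
    rw [← hJ, hΔy, show y ⊗ₜ[k] gl ψ e + (1 : A) ⊗ₜ[k] y - y ⊗ₜ[k] (1 : A) = y ⊗ₜ[k] (gl ψ e - 1) + (1 : A) ⊗ₜ[k] y by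
      rw [TensorProduct.tmul_sub]; abel]
    exact ⟨y ⊗ₜ[k] ⟨_, hJ ▸ gl_sub_one_mem ψ e⟩ + (1 : A) ⊗ₜ[k] ⟨y, hyJ⟩, by simp⟩)
  have hΔb : Coalgebra.comul (R := k) b =
      b ⊗ₜ[k] MonoidAlgebra.single e 1 + (1 : MonoidAlgebra k M) ⊗ₜ[k] b := by
    refine TensorProduct.map_injective_of_flat_flat (ψ : MonoidAlgebra k M →ₗ[k] A) (ψ : MonoidAlgebra k M →ₗ[k] A) hψ hψ ?_
    rw [CoalgHomClass.map_comp_comul_apply, map_add, TensorProduct.map_tmul, TensorProduct.map_tmul]
    show Coalgebra.comul (R := k) (ψ b) = ψ b ⊗ₜ[k] gl ψ e + ψ 1 ⊗ₜ[k] ψ b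
    rw [hb, map_one, hΔy]
  set lam := -coeffFun (1 : M) b with hlam
  have hyv : y = lam • (gl ψ e - 1) := by
    have h := coeff_one_comul b
    rw [hΔb, map_add, map_add, LinearMap.rTensor_tmul, LinearMap.rTensor_tmul, TensorProduct.lid_tmul,
      TensorProduct.lid_tmul, MonoidAlgebra.one_def, coeffFun_single, if_pos rfl, one_smul, ← MonoidAlgebra.one_def] at h
    have h' := congrArg ψ h
    rw [map_add, map_smul, map_smul, map_one, hb, ← gl] at h'
    rw [hlam, neg_smul, smul_sub, neg_sub, ← h']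
    abel
  have hfd : (f - C lam).degree ≠ 0 := by
    refine ne_of_gt ?_
    rw [degree_sub_C (natDegree_pos_iff_degree_pos.mp hd)]
    exact natDegree_pos_iff_degree_pos.mp hd
  obtain ⟨c, hc⟩ := IsAlgClosed.exists_root _ hfd
  rw [IsRoot, eval_sub, eval_C, sub_eq_zero] at hc
  have hF1 : F (c • gl ψ χ) = lam • gl ψ e := by
    show aeval (c • gl ψ χ) f = _
    rw [aeval_eq_sum_range, ← hc, eval_eq_sum_range, Finset.sum_smul]
    refine Finset.sum_congr rfl fun l _ => ?_
    rw [_root_.smul_pow, gl_pow, smul_comm, hcl, smul_smul, mul_comm]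
  have hF2 : F (c • (1 : A)) = lam • (1 : A) := by
    show aeval (c • (1 : A)) f = _
    rw [← Algebra.algebraMap_eq_smul_one, Polynomial.aeval_algebraMap_apply_eq_algebraMap_eval, hc,
      Algebra.algebraMap_eq_smul_one]
  let x' := x - c • (gl ψ χ - 1)
  have hFx' : aeval x' f = 0 := by
    show F (x - c • (gl ψ χ - 1)) = 0
    rw [smul_sub, map_sub, map_sub, hF1, hF2, show F x = y from rfl, hyv, ← smul_sub, sub_self]
  have hqx' : q x' = q x := by
    show q (x - c • (gl ψ χ - 1)) = q x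
    rw [map_sub, map_smul, map_sub, hqgl, map_one, sub_self, smul_zero, sub_zero]
  refine ⟨x', fun ⟨b', hb'⟩ => hxR ⟨b' + c • (MonoidAlgebra.single χ 1 - 1), ?_⟩, ?_, fun P hP => ?_, hqx'⟩
  · rw [map_add, hb', map_smul, map_sub, map_one, ← gl]
    simp [x']
  · show Coalgebra.comul (R := k) (x - c • (gl ψ χ - 1)) = (x - c • (gl ψ χ - 1)) ⊗ₜ[k] gl ψ χ + (1 : A) ⊗ₜ[k] (x - c • (gl ψ χ - 1))
    rw [map_sub, map_smul, map_sub, hx, comul_gl, Bialgebra.comul_one, Algebra.TensorProduct.one_def,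
      TensorProduct.sub_tmul, TensorProduct.tmul_sub, TensorProduct.tmul_smul, ← TensorProduct.smul_tmul',
      TensorProduct.sub_tmul, TensorProduct.tmul_sub]
    module
  · obtain ⟨S, rfl⟩ := minpoly.dvd k (q x) (hqx' ▸ hP : aeval (q x) P = 0)
    rw [map_mul, show aeval x' (minpoly k (q x)) = 0 from hFx', zero_mul]

end Groth.Agent.ExtUnipLib
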