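import Groth.Agent.ExtMultLib.Split
import Groth.Agent.TakeuchiLib.Kernels
import Groth.Agent.GrpSchLib.SubHopf
import Groth.Agent.ComodLib.Push

/-!
# Skew-primitive elements in extensions of diagonalizable groups by unipotent groups
-/

universe u

set_option autoImplicit false
set_option backward.isDefEq.respectTransparency false
set_option backward.isDefEq.respectTransparency.types false

open TensorProduct WithConv

namespace Groth.Agent.ExtUnipLib

open ComodLib (actF slice)
open TakeuchiLib (coeffMap)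
open ExtMultLib (coeffFun coeffFun_single)

variable {k : Type u} [Field k] {M : Type u} [CommGroup M] {A : Type u} [CommRing A] [HopfAlgebra k A]

theorem comul_single (m : M) : Coalgebra.comul (R := k) (MonoidAlgebra.single m (1 : k) : MonoidAlgebra k M) =
    MonoidAlgebra.single m (1 : k) ⊗ₜ[k] MonoidAlgebra.single m (1 : k) := by
  simp [MonoidAlgebra.comul_single]

theorem isGroupLike_single (m : M) : IsGroupLikeElem k (MonoidAlgebra.single m (1 : k) : MonoidAlgebra k M) :=
  ⟨by simp, comul_single m⟩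

/-- The character attached to an element of the group. -/
noncomputable def gl (ψ : MonoidAlgebra k M →ₐc[k] A) (m : M) : A := ψ (MonoidAlgebra.single m 1)

theorem gl_mul (ψ : MonoidAlgebra k M →ₐc[k] A) (m n : M) : gl ψ (m * n) = gl ψ m * gl ψ n := by
  rw [gl, gl, gl, ← map_mul, MonoidAlgebra.single_mul_single, one_mul]

theorem gl_one (ψ : MonoidAlgebra k M →ₐc[k] A) : gl ψ 1 = 1 := by
  rw [gl, ← MonoidAlgebra.one_def, map_one]

theorem gl_inv_mul (ψ : MonoidAlgebra k M →ₐc[k] A) (m : M) : gl ψ m⁻¹ * gl ψ m = 1 := by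
  rw [← gl_mul, inv_mul_cancel, gl_one]

theorem comul_gl (ψ : MonoidAlgebra k M →ₐc[k] A) (m : M) :
    Coalgebra.comul (R := k) (gl ψ m) = gl ψ m ⊗ₜ[k] gl ψ m := by
  rw [gl, ← CoalgHomClass.map_comp_comul_apply ψ, comul_single, TensorProduct.map_tmul]
  rfl

theorem counit_gl (ψ : MonoidAlgebra k M →ₐc[k] A) (m : M) : Coalgebra.counit (R := k) (gl ψ m) = 1 := by
  rw [gl, CoalgHomClass.counit_comp_apply]
  simp

theorem apply_eq_smul_gl (ψ : MonoidAlgebra k M →ₐc[k] A) (m : M) (c : k) :
    ψ (MonoidAlgebra.single m c) = c • gl ψ m := by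
  rw [gl, ← map_smul, MonoidAlgebra.smul_single, smul_eq_mul, mul_one]

variable (k M) in
/-- The monomial basis. -/
noncomputable def bM : Module.Basis M k (MonoidAlgebra k M) :=
  Finsupp.basisSingleOne.map (MonoidAlgebra.coeffLinearEquiv k).symm

theorem bM_apply (m : M) : bM k M m = MonoidAlgebra.single m 1 := by simp [bM]

theorem bM_coord (m : M) : (bM k M).coord m = coeffFun m := LinearMap.ext fun x => by simp [bM, coeffFun]

theorem exists_slice_ne_zero {V : Type u} [AddCommGroup V] [Module k V] {z : V ⊗[k] MonoidAlgebra k M} (hz : z ≠ 0) :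
    ∃ m, slice (coeffFun m) z ≠ 0 := by
  classical
  by_contra h
  push Not at h
  refine hz ((TensorProduct.equivFinsuppOfBasisRight (bM k M)).injective (Finsupp.ext fun m => ?_))
  rw [map_zero, TensorProduct.equivFinsuppOfBasisRight_apply, bM_coord, Finsupp.zero_apply, ← h m]
  clear hz h
  induction z using TensorProduct.induction_on with
  | zero => simp
  | tmul x y => simp
  | add x y hx hy => simp only [map_add, hx, hy]

/-- A finitely generated Hopf algebra only contains finitely generated diagonalizable ones. -/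
theorem fg_of_injective [Algebra.FiniteType k A] (ψ : MonoidAlgebra k M →ₐc[k] A) (hψ : Function.Injective ψ) :
    Group.FG M := by
  classical
  haveI : IsNoetherianRing A := Algebra.FiniteType.isNoetherianRing k A
  let I : Finset M → Ideal A := fun S => Ideal.span ((fun m => gl ψ m - 1) '' (Subgroup.closure (S : Set M) : Set M))
  obtain ⟨_, ⟨S, rfl⟩, hmax⟩ := set_has_maximal_iff_noetherian.mpr
    (inferInstance : IsNoetherian A A) (Set.range I) ⟨_, ⟨∅, rfl⟩⟩
  refine ⟨⟨S, eq_top_iff.mpr fun m _ => ?_⟩⟩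
  let H := Subgroup.closure (S : Set M)
  haveI : Group.FG H := inferInstance
  haveI : Monoid.FG H := Group.fg_iff_monoid_fg.mp inferInstance
  haveI : Algebra.FiniteType k (MonoidAlgebra k H) := inferInstance
  let j : MonoidAlgebra k H →ₐc[k] MonoidAlgebra k M := MonoidAlgebra.mapDomainBialgHom k H.subtype
  have hj : ∀ (h : H) (c : k), j (MonoidAlgebra.single h c) = MonoidAlgebra.single (h : M) c := fun h c => by simp [j]
  have hjinj : Function.Injective j := MonoidAlgebra.mapDomain_injective (Subgroup.subtype_injective H)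
  have hIS : I S ≤ Ideal.map ((ψ.comp j : MonoidAlgebra k H →ₐc[k] A) : MonoidAlgebra k H →+* A)
      (RingHom.ker (Bialgebra.counitAlgHom k (MonoidAlgebra k H))) := by
    refine Ideal.span_le.mpr ?_
    rintro _ ⟨h, hh, rfl⟩
    have e : gl ψ h - 1 = (ψ.comp j) (MonoidAlgebra.single ⟨h, hh⟩ 1 - 1) := by
      rw [map_sub, map_one, BialgHom.comp_apply, hj]
      rfl
    show gl ψ h - 1 ∈ _
    rw [e]
    exact Ideal.mem_map_of_mem _ (RingHom.mem_ker.mpr (by simp))
  have hle : I S ≤ I (insert m S) := Ideal.span_mono (Set.image_mono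
    (SetLike.coe_subset_coe.mpr (Subgroup.closure_mono (Finset.coe_subset.mpr (Finset.subset_insert m S)))))
  have heq : I (insert m S) = I S := by
    by_contra h
    exact hmax _ ⟨_, rfl⟩ (lt_of_le_of_ne hle (Ne.symm h))
  have hmem : gl ψ m - 1 ∈ I S := heq ▸ Ideal.subset_span
    ⟨m, Subgroup.subset_closure (Finset.mem_coe.mpr (Finset.mem_insert_self m S)), rfl⟩
  obtain ⟨b, hb⟩ := TakeuchiLib.mem_range_of_invariant (ψ.comp j) (hψ.comp hjinj) (gl ψ m) (by
    rw [comul_gl, ← TensorProduct.tmul_sub]
    exact ⟨gl ψ m ⊗ₜ[k] ⟨_, hIS hmem⟩, rfl⟩)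
  have hb' : j b = MonoidAlgebra.single m 1 := hψ hb
  by_contra hm
  have h0 : coeffFun m (j b) = (0 : k) := by
    clear hb hb'
    induction b using MonoidAlgebra.induction_linear with
    | zero => simp
    | add x y hx hy => rw [map_add, map_add, hx, hy, add_zero]
    | single h c =>
      rw [hj, coeffFun_single, if_neg]
      exact fun e => hm (e ▸ h.2)
  rw [hb', coeffFun_single, if_pos rfl] at h0
  exact one_ne_zero h0

/-- In a nonsplit extension there is a skew-primitive element outside the quotient. -/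
theorem exists_skew [Algebra.FiniteType k A] (ψ : MonoidAlgebra k M →ₐc[k] A) (hψ : Function.Injective ψ)
    (J : Ideal A) [J.IsHopfIdeal k]
    (hJ : J = Ideal.map (ψ : MonoidAlgebra k M →+* A) (RingHom.ker (Bialgebra.counitAlgHom k (MonoidAlgebra k M))))
    (hU : HopfRep.IsUnipotent k (A ⧸ J)) (hns : ¬ Function.Surjective ψ) :
    ∃ (χ : M) (x : A), x ∉ Set.range ψ ∧
      Coalgebra.comul (R := k) x = x ⊗ₜ[k] gl ψ χ + (1 : A) ⊗ₜ[k] x := by
  classical
  haveI : Group.FG M := fg_of_injective ψ hψ
  haveI : Monoid.FG M := Group.fg_iff_monoid_fg.mp inferInstance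
  haveI : Algebra.FiniteType k (MonoidAlgebra k M) := inferInstance
  let ψl : MonoidAlgebra k M →ₗ[k] A := (ψ : MonoidAlgebra k M →ₐ[k] A).toLinearMap
  let R : Submodule k A := LinearMap.range ψl
  have hR : HopfRep.IsSubcomod (k := k) (A := A) R := by
    rintro _ ⟨b, rfl⟩
    show Coalgebra.comul (R := k) (ψ b) ∈ _
    rw [← CoalgHomClass.map_comp_comul_apply ψ b]
    induction Coalgebra.comul (R := k) b using TensorProduct.induction_on with
    | zero => simp
    | tmul p q => exact ⟨(⟨ψ p, p, rfl⟩ : R) ⊗ₜ[k] ψ q, rfl⟩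
    | add p q hp hq => rw [map_add]; exact Submodule.add_mem _ hp hq
  obtain ⟨b₀, hb₀⟩ : ∃ b, b ∉ R := by
    by_contra h
    push Not at h
    exact hns fun a => h a
  letI cQ : HopfRep.Comod k A (A ⧸ R) := ComodSub.Comod.quot (HopfRep.Comod.regular k A) R hR
  obtain ⟨U, hUf, hbU, hU'⟩ := ComodLib.exists_finite_subcomod_le (k := k) (C := A) (V := A ⧸ R)
    (Set.finite_singleton (R.mkQ b₀))
  haveI := hUf
  haveI : Nontrivial U := Submodule.nontrivial_iff_ne_bot.mpr ((Submodule.ne_bot_iff _).mpr
    ⟨_, hbU rfl, fun h => hb₀ ((Submodule.Quotient.mk_eq_zero R).mp h)⟩)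
  letI cU : HopfRep.Comod k A U := ComodSub.Comod.restr cQ U hU'
  let q : A →ₐ[k] A ⧸ J := Ideal.Quotient.mkₐ k J
  letI cJ : HopfRep.Comod k (A ⧸ J) U :=
    ComodLib.pushComod ((Bialgebra.Quotient.mkBialgHom (R := k) J) : A →ₗc[k] A ⧸ J) cU
  obtain ⟨v, hv, hv0⟩ := (Submodule.ne_bot_iff _).mp (hU U inferInstance inferInstance)
  have hv' : LinearMap.lTensor U q.toLinearMap (cU.coact v) = v ⊗ₜ[k] (1 : A ⧸ J) := hv
  have hcoef : ∀ f : U →ₗ[k] k, coeffMap (A := A) f v ∈ R := fun f => by
    have h := TakeuchiLib.comul_coeffMap_sub_mem q Ideal.Quotient.mk_surjective v hv' f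
    rw [show RingHom.ker q = J from Ideal.Quotient.mkₐ_ker k J, hJ] at h
    exact TakeuchiLib.mem_range_of_invariant ψ hψ _ h
  obtain ⟨z, hz⟩ : ∃ z : U ⊗[k] MonoidAlgebra k M, ψl.lTensor U z = cU.coact v := by
    obtain ⟨z, hz⟩ := TakeuchiLib.coact_mem (A := A) R v hcoef
    obtain ⟨w, rfl⟩ := LinearMap.lTensor_surjective U ψl.surjective_rangeRestrict z
    refine ⟨w, Eq.trans ?_ hz⟩
    rw [← LinearMap.comp_apply, ← LinearMap.lTensor_comp]
    rfl
  obtain ⟨m, hm⟩ := exists_slice_ne_zero (z := z) fun h => by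
    rw [h, map_zero] at hz
    have := ComodLib.actF_counit (k := k) (C := A) v
    rw [ComodLib.actF_apply, show HopfRep.Comod.coact (k := k) (A := A) v = 0 from hz.symm, map_zero] at this
    exact hv0 this.symm
  obtain ⟨π, hπ⟩ := LinearMap.exists_leftInverse_of_injective ψl (LinearMap.ker_eq_bot.mpr hψ)
  have hπ' : ∀ b, π (ψ b) = b := LinearMap.congr_fun hπ
  let φ : M → A →ₗ[k] k := fun n => coeffFun n ∘ₗ π
  have hφ : ∀ n n' : M, φ n (gl ψ n') = if n' = n then 1 else 0 := fun n n' => by
    show coeffFun n (π (ψ _)) = _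
    rw [hπ', coeffFun_single]
  set w : U := slice (coeffFun m) z with hw
  have hwv : actF (φ m) v = w := by
    rw [ComodLib.actF_apply, show HopfRep.Comod.coact (k := k) (A := A) v = ψl.lTensor U z from hz.symm, hw]
    clear hz hm hw
    induction z using TensorProduct.induction_on with
    | zero => simp
    | tmul x y => simp [φ, ψl, hπ']
    | add x y hx hy => simp only [map_add, hx, hy]
  have hwc : cU.coact w = w ⊗ₜ[k] gl ψ m := by
    rw [← hwv]
    refine (TakeuchiLib.coact_actF (φ m) v).trans ?_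
    rw [show HopfRep.Comod.coact (k := k) (A := A) v = ψl.lTensor U z from hz.symm, hwv, hw]
    clear hz hm hw hwv w
    induction z using TensorProduct.induction_on with
    | zero => simp
    | add x y hx hy => simp only [map_add, hx, hy, TensorProduct.add_tmul]
    | tmul x y =>
      induction y using MonoidAlgebra.induction_linear with
      | zero => simp
      | add p q hp hq => simp only [TensorProduct.tmul_add, map_add, hp, hq, TensorProduct.add_tmul]
      | single n c =>
        simp only [LinearMap.lTensor_tmul, LinearMap.comp_apply, ψl, AlgHom.toLinearMap_apply, BialgHom.coe_toAlgHom,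
          apply_eq_smul_gl, map_smul, comul_gl, ComodLib.slice_tmul, coeffFun_single, hφ, ite_smul, one_smul, zero_smul]
        split
        · next h => subst h; simp [TensorProduct.smul_tmul]
        · simp
  obtain ⟨a, ha⟩ := R.mkQ_surjective (w : A ⧸ R)
  have hmem : Coalgebra.comul (R := k) a - a ⊗ₜ[k] gl ψ m ∈ LinearMap.range (ψl.rTensor A) := by
    have hex : Function.Exact ψl R.mkQ := LinearMap.exact_iff.mpr (by rw [Submodule.ker_mkQ])
    refine (rTensor_exact A hex R.mkQ_surjective _).mp ?_
    rw [map_sub, LinearMap.rTensor_tmul, sub_eq_zero, ha]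
    have h1 : cQ.coact (R.mkQ a) = R.mkQ.rTensor A (Coalgebra.comul (R := k) a) := rfl
    rw [← h1, ha, ← ComodSub.restr_coact_coe cQ U hU' w]
    show U.subtype.rTensor A (cU.coact w) = _
    rw [hwc]
    rfl
  obtain ⟨z', hz'⟩ := hmem
  have hz'' : Coalgebra.comul (R := k) a = ψl.rTensor A z' + a ⊗ₜ[k] gl ψ m := by rw [hz', sub_add_cancel]
  let c : M → A := fun n => TensorProduct.lid k A ((coeffFun n).rTensor A z')
  have hca : ∀ n, coeffMap (φ n) a = c n + φ n a • gl ψ m := by
    intro n
    show TensorProduct.lid k A ((φ n).rTensor A (Coalgebra.comul (R := k) a)) = _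
    rw [hz'', map_add, map_add, LinearMap.rTensor_tmul, TensorProduct.lid_tmul]
    refine congrArg (· + _) ?_
    simp only [c]
    clear hz' hz''
    induction z' using TensorProduct.induction_on with
    | zero => simp
    | tmul x y => simp [φ, ψl, hπ']
    | add x y hx hy => simp only [map_add, hx, hy]
  have hΔc : ∀ n, Coalgebra.comul (R := k) (c n) = c n ⊗ₜ[k] gl ψ m + gl ψ n ⊗ₜ[k] c n := by
    intro n
    have h1 : Coalgebra.comul (R := k) (coeffMap (φ n) a) = (coeffMap (φ n)).rTensor A (Coalgebra.comul (R := k) a) :=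
      LinearMap.congr_fun (TakeuchiLib.isComodHom_coeffMap (A := A) (φ n)) a
    rw [hz'', map_add, LinearMap.rTensor_tmul, hca, map_add, map_smul, comul_gl] at h1
    have h2 : (coeffMap (φ n)).rTensor A (ψl.rTensor A z') = gl ψ n ⊗ₜ[k] c n := by
      simp only [c]
      clear hz' hz'' h1 hca
      induction z' using TensorProduct.induction_on with
      | zero => simp
      | add x y hx hy => simp only [map_add, hx, hy, TensorProduct.tmul_add]
      | tmul x y =>
        induction x using MonoidAlgebra.induction_linear with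
        | zero => simp
        | add p q hp hq => simp only [TensorProduct.add_tmul, map_add, hp, hq, TensorProduct.tmul_add]
        | single n' r =>
          simp only [LinearMap.rTensor_tmul, TensorProduct.lid_tmul, ψl, AlgHom.toLinearMap_apply, BialgHom.coe_toAlgHom,
            apply_eq_smul_gl, map_smul, coeffFun_single]
          have h3 : coeffMap (φ n) (gl ψ n') = φ n (gl ψ n') • gl ψ n' := by
            show TensorProduct.lid k A ((φ n).rTensor A (Coalgebra.comul (R := k) (gl ψ n'))) = _
            rw [comul_gl]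
            simp
          rw [h3, hφ]
          split
          · next h => subst h; simp [TensorProduct.smul_tmul]
          · simp
    rw [h2, TensorProduct.add_tmul, ← TensorProduct.smul_tmul'] at h1
    rw [← sub_eq_zero] at h1 ⊢
    rw [← h1]
    abel
  obtain ⟨n, hn⟩ : ∃ n, c n ∉ R := by
    by_contra h
    push Not at h
    refine hm (Subtype.ext ?_)
    show (w : A ⧸ R) = 0
    rw [← ha]
    refine (Submodule.Quotient.mk_eq_zero R).mpr ?_
    have h1 := congrArg (fun t => TensorProduct.lid k A ((Coalgebra.counit (R := k)).rTensor A t)) hz''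
    simp only [Coalgebra.rTensor_counit_comul, map_add, LinearMap.rTensor_tmul, TensorProduct.lid_tmul, one_smul] at h1
    rw [h1]
    refine R.add_mem ?_ (R.smul_mem _ ⟨_, rfl⟩)
    let e := TensorProduct.equivFinsuppOfBasisLeft (N := A) (bM k M)
    rw [← e.symm_apply_apply z', TensorProduct.equivFinsuppOfBasisLeft_symm_apply]
    simp only [Finsupp.sum, map_sum, LinearMap.rTensor_tmul, TensorProduct.lid_tmul]
    refine R.sum_mem fun n _ => R.smul_mem _ ?_
    rw [TensorProduct.equivFinsuppOfBasisLeft_apply, bM_coord]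
    exact h n
  refine ⟨n⁻¹ * m, gl ψ n⁻¹ * c n, fun ⟨b, hb⟩ => hn ⟨MonoidAlgebra.single n 1 * b, ?_⟩, ?_⟩
  · show ψ (_ * b) = c n
    rw [map_mul, hb, ← gl, ← mul_assoc, mul_comm (gl ψ n), gl_inv_mul, one_mul]
  · rw [Bialgebra.comul_mul, hΔc, comul_gl, mul_add, Algebra.TensorProduct.tmul_mul_tmul,
      Algebra.TensorProduct.tmul_mul_tmul, ← gl_mul, gl_inv_mul]

end Groth.Agent.ExtUnipLib
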