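import Groth.Agent.ExtUnipLib.Normalize
import Groth.Agent.GrpSchLib.SimpleFinite
import Mathlib.RingTheory.Flat.FaithfullyFlat.Algebra
import Mathlib.RingTheory.Polynomial.Basic

/-!
# A nonsplit extension has a smaller one
-/

universe u

set_option autoImplicit false
set_option backward.isDefEq.respectTransparency false
set_option backward.isDefEq.respectTransparency.types false

open TensorProduct WithConv Polynomial

namespace Groth.Agent.ExtUnipLib

open ComodLib (actF slice)

variable {k : Type u} [Field k] {M : Type u} [CommGroup M] {A : Type u} [CommRing A] [HopfAlgebra k A]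

/-- Polynomials over the quotient evaluated at a skew-primitive element. -/
noncomputable def evalHom (ψ : MonoidAlgebra k M →ₐc[k] A) (x : A) : (MonoidAlgebra k M)[X] →ₐ[k] A :=
  Polynomial.aevalTower (ψ : MonoidAlgebra k M →ₐ[k] A) x

theorem evalHom_C (ψ : MonoidAlgebra k M →ₐc[k] A) (x : A) (b : MonoidAlgebra k M) : evalHom ψ x (C b) = ψ b :=
  Polynomial.aevalTower_C _ _ b

theorem evalHom_X (ψ : MonoidAlgebra k M →ₐc[k] A) (x : A) : evalHom ψ x X = x :=
  Polynomial.aevalTower_X _ _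

theorem evalHom_map (ψ : MonoidAlgebra k M →ₐc[k] A) (x : A) (P : k[X]) :
    evalHom ψ x (P.map (algebraMap k (MonoidAlgebra k M))) = aeval x P := by
  induction P using Polynomial.induction_on' with
  | add a b ha hb => rw [Polynomial.map_add, map_add, map_add, ha, hb]
  | monomial n c =>
    rw [Polynomial.map_monomial, ← C_mul_X_pow_eq_monomial, map_mul, map_pow, evalHom_C, evalHom_X, aeval_monomial,
      show ψ (algebraMap k (MonoidAlgebra k M) c) = algebraMap k A c from (ψ : MonoidAlgebra k M →ₐ[k] A).commutes c]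

variable {J : Ideal A} [J.IsHopfIdeal k]

/-- Translation by the kernel fixes the quotient. -/
theorem map_comul_psi (ψ : MonoidAlgebra k M →ₐc[k] A)
    (hJ : J = Ideal.map (ψ : MonoidAlgebra k M →+* A) (RingHom.ker (Bialgebra.counitAlgHom k (MonoidAlgebra k M))))
    (b : MonoidAlgebra k M) :
    Algebra.TensorProduct.map (AlgHom.id k A) (Ideal.Quotient.mkₐ k J) (Coalgebra.comul (R := k) (ψ b)) =
      ψ b ⊗ₜ[k] (1 : A ⧸ J) := by
  induction b using MonoidAlgebra.induction_linear with
  | zero => simp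
  | add a b ha hb => simp only [map_add, ha, hb, TensorProduct.add_tmul]
  | single m c =>
    have hq : Ideal.Quotient.mkₐ k J (gl ψ m) = 1 := by
      rw [← map_one (Ideal.Quotient.mkₐ k J)]
      exact Ideal.Quotient.eq.mpr (hJ ▸ gl_sub_one_mem ψ m)
    rw [apply_eq_smul_gl, map_smul, comul_gl, map_smul, Algebra.TensorProduct.map_tmul, hq, TensorProduct.smul_tmul']
    rfl

theorem eq_zero_of_evalHom (ψ : MonoidAlgebra k M →ₐc[k] A) (hψ : Function.Injective ψ)
    (hJ : J = Ideal.map (ψ : MonoidAlgebra k M →+* A) (RingHom.ker (Bialgebra.counitAlgHom k (MonoidAlgebra k M))))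
    {χ : M} {x : A} (hx : Coalgebra.comul (R := k) x = x ⊗ₜ[k] gl ψ χ + (1 : A) ⊗ₜ[k] x) (N : ℕ)
    (hind : ∀ P : k[X], P.natDegree < N → aeval (Ideal.Quotient.mkₐ k J x) P = 0 → P = 0)
    (P : (MonoidAlgebra k M)[X]) (hP : P.natDegree < N) (h0 : evalHom ψ x P = 0) : P = 0 := by
  classical
  by_contra hne
  set n := P.natDegree with hn
  let q := Ideal.Quotient.mkₐ k J
  obtain ⟨φ, hφ⟩ := exists_coeff_fun (q x) N hind n
  let ρ : A →ₐ[k] A ⊗[k] (A ⧸ J) :=
    (Algebra.TensorProduct.map (AlgHom.id k A) q).comp (Bialgebra.comulAlgHom k A)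
  have hqgl : q (gl ψ χ) = 1 := by
    rw [← map_one q]
    exact Ideal.Quotient.eq.mpr (hJ ▸ gl_sub_one_mem ψ χ)
  have hρx : ρ x = x ⊗ₜ[k] (1 : A ⧸ J) + (1 : A) ⊗ₜ[k] q x := by
    show Algebra.TensorProduct.map _ _ (Coalgebra.comul (R := k) x) = _
    rw [hx, map_add, Algebra.TensorProduct.map_tmul, Algebra.TensorProduct.map_tmul, hqgl]
    rfl
  have hρψ : ∀ b, ρ (ψ b) = ψ b ⊗ₜ[k] (1 : A ⧸ J) := map_comul_psi ψ hJ
  have hterm : ∀ (b : MonoidAlgebra k M) (j : ℕ), j ≤ n →
      slice φ (ρ (ψ b * x ^ j)) = if j = n then ψ b else 0 := by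
    intro b j hj
    rw [map_mul, map_pow, hρψ, hρx, add_pow, Finset.mul_sum, map_sum, Finset.sum_eq_single 0]
    · simp [Algebra.TensorProduct.tmul_pow, hφ j (lt_of_le_of_lt hj hP)]
    · intro r hr hr0
      have : j - r ≠ n := by have := Finset.mem_range.mp hr; omega
      rw [mul_comm ((x ⊗ₜ[k] (1 : A ⧸ J)) ^ r * _), ← nsmul_eq_mul, mul_smul_comm, map_nsmul]
      simp [Algebra.TensorProduct.tmul_pow, hφ (j - r) (by omega), this]
    · simp
  have h := congrArg (fun a => slice φ (ρ a)) h0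
  simp only [map_zero] at h
  rw [P.as_sum_range_C_mul_X_pow, map_sum] at h
  simp only [map_mul, map_pow, evalHom_C, evalHom_X] at h
  rw [map_sum, map_sum, Finset.sum_congr rfl fun j hj =>
    hterm (P.coeff j) j (Nat.lt_succ_iff.mp (Finset.mem_range.mp hj))] at h
  rw [Finset.sum_ite_eq', if_pos (Finset.mem_range.mpr (Nat.lt_succ_self _))] at h
  exact hne (leadingCoeff_eq_zero.mp (hψ (h.trans (map_zero ψ).symm)))

/-- Relations of a normalized element have no constant term. -/
theorem coeff_zero_of_evalHom (ψ : MonoidAlgebra k M →ₐc[k] A) (hψ : Function.Injective ψ)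
    (hJ : J = Ideal.map (ψ : MonoidAlgebra k M →+* A) (RingHom.ker (Bialgebra.counitAlgHom k (MonoidAlgebra k M))))
    {χ : M} {x : A} (hx : Coalgebra.comul (R := k) x = x ⊗ₜ[k] gl ψ χ + (1 : A) ⊗ₜ[k] x)
    (hnorm : ∀ P : k[X], aeval (Ideal.Quotient.mkₐ k J x) P = 0 → aeval x P = 0)
    (P : (MonoidAlgebra k M)[X]) (h0 : evalHom ψ x P = 0) : P.coeff 0 = 0 := by
  classical
  let q := Ideal.Quotient.mkₐ k J
  by_cases halg : ∀ Q : k[X], aeval (q x) Q = 0 → Q = 0
  · rw [eq_zero_of_evalHom ψ hψ hJ hx (P.natDegree + 1) (fun Q _ => halg Q) P (Nat.lt_succ_self _) h0, coeff_zero]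
  push Not at halg
  obtain ⟨P0, hP0, hP0'⟩ := halg
  have hint : IsIntegral k (q x) := IsAlgebraic.isIntegral ⟨P0, hP0', hP0⟩
  haveI : Nontrivial (A ⧸ J) := (Bialgebra.counitAlgHom k (A ⧸ J)).toRingHom.domain_nontrivial
  haveI : Nontrivial (MonoidAlgebra k M) :=
    (Bialgebra.counitAlgHom k (MonoidAlgebra k M)).toRingHom.domain_nontrivial
  let f := minpoly k (q x)
  let g := f.map (algebraMap k (MonoidAlgebra k M))
  have hg : g.Monic := (minpoly.monic hint).map _
  have hgd : g.natDegree = f.natDegree := (minpoly.monic hint).natDegree_map _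
  have hg1 : g ≠ 1 := fun h => by
    have h' := congrArg natDegree h
    rw [hgd, natDegree_one] at h'
    exact (minpoly.natDegree_pos hint).ne' h'
  have hg0 : evalHom ψ x g = 0 := by rw [evalHom_map]; exact hnorm f (minpoly.aeval k _)
  have hr : P %ₘ g = 0 := by
    refine eq_zero_of_evalHom ψ hψ hJ hx f.natDegree (fun Q hQ hQ' => ?_) _
      ((natDegree_modByMonic_lt P hg hg1).trans_eq hgd) ?_
    · by_contra h
      exact absurd (Polynomial.natDegree_le_of_dvd (minpoly.dvd k _ hQ') h) (not_le.mpr hQ)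
    · have h := congrArg (evalHom ψ x) (modByMonic_add_div P g)
      rwa [map_add, map_mul, hg0, zero_mul, add_zero, h0] at h
  have h2 : g * (P /ₘ g) = P := by
    have h := modByMonic_add_div P g
    rwa [hr, zero_add] at h
  rw [← h2, mul_coeff_zero]
  have hf0 : f.coeff 0 = 0 := by
    have h := congrArg (Bialgebra.counitAlgHom k (A ⧸ J)) (minpoly.aeval k (q x))
    rw [← Polynomial.aeval_algHom_apply, map_zero,
      show Bialgebra.counitAlgHom k (A ⧸ J) (q x) = 0 from
        (CoalgHomClass.counit_comp_apply (Bialgebra.Quotient.mkBialgHom (R := k) J) x).trans (counit_skew ψ hx),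
      ← Polynomial.coeff_zero_eq_aeval_zero] at h
    exact h
  simp [g, hf0]

/-- A nonsplit extension contains a smaller one. -/
theorem exists_ideal [IsAlgClosed k] [Algebra.FiniteType k A] (ψ : MonoidAlgebra k M →ₐc[k] A)
    (hψ : Function.Injective ψ)
    (hJ : J = Ideal.map (ψ : MonoidAlgebra k M →+* A) (RingHom.ker (Bialgebra.counitAlgHom k (MonoidAlgebra k M))))
    (hU : HopfRep.IsUnipotent k (A ⧸ J)) (hns : ¬ Function.Surjective ψ) :
    ∃ I : Ideal A, I.IsHopfIdeal k ∧ I ≠ ⊥ ∧ ∀ b, ψ b ∈ I → b = 0 := by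
  classical
  haveI : Group.FG M := fg_of_injective ψ hψ
  haveI : Monoid.FG M := Group.fg_iff_monoid_fg.mp inferInstance
  haveI : Algebra.FiniteType k (MonoidAlgebra k M) := inferInstance
  obtain ⟨χ, x₀, hx₀R, hx₀⟩ := exists_skew ψ hψ J hJ hU hns
  obtain ⟨x, hxR, hx, hnorm, -⟩ := exists_normalized ψ hψ hJ hx₀R hx₀
  have hε := counit_skew ψ hx
  have hSx : HopfAlgebra.antipode k x = -(x * gl ψ χ⁻¹) := by
    have h := HopfAlgebra.mul_antipode_rTensor_comul_apply (R := k) x
    rw [hx, map_add, map_add, LinearMap.rTensor_tmul, LinearMap.rTensor_tmul, LinearMap.mul'_apply,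
      LinearMap.mul'_apply, HopfAlgebra.antipode_one, one_mul, hε, map_zero] at h
    have h2 : HopfAlgebra.antipode k x * gl ψ χ = -x := eq_neg_of_add_eq_zero_left h
    calc HopfAlgebra.antipode k x = HopfAlgebra.antipode k x * (gl ψ χ * gl ψ χ⁻¹) := by
          rw [mul_comm (gl ψ χ), gl_inv_mul, mul_one]
      _ = -(x * gl ψ χ⁻¹) := by rw [← mul_assoc, h2, neg_mul]
  let D : Subalgebra k A := (evalHom ψ x).range
  have hψD : ∀ b, ψ b ∈ D := fun b => ⟨C b, evalHom_C ψ x b⟩
  have hxD : x ∈ D := ⟨X, evalHom_X ψ x⟩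
  have hD : SGA3.IsHopfSubalgebra k A D := by
    refine ⟨?_, ?_⟩
    · rintro _ ⟨P, rfl⟩
      change Bialgebra.comulAlgHom k A (evalHom ψ x P) ∈ (Algebra.TensorProduct.map D.val D.val).range
      induction P using Polynomial.induction_on' with
      | add a b ha hb => rw [map_add, map_add]; exact add_mem ha hb
      | monomial n c =>
        rw [← C_mul_X_pow_eq_monomial, map_mul, map_mul, map_pow, map_pow, evalHom_C, evalHom_X]
        refine mul_mem ?_ (pow_mem ?_ n)
        · show Coalgebra.comul (R := k) (ψ c) ∈ _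
          rw [← CoalgHomClass.map_comp_comul_apply ψ c]
          induction Coalgebra.comul (R := k) c using TensorProduct.induction_on with
          | zero => simp
          | add a b ha hb => rw [map_add]; exact add_mem ha hb
          | tmul a b => exact ⟨⟨ψ a, hψD a⟩ ⊗ₜ[k] ⟨ψ b, hψD b⟩, rfl⟩
        · show Coalgebra.comul (R := k) x ∈ _
          rw [hx]
          exact add_mem ⟨⟨x, hxD⟩ ⊗ₜ[k] ⟨gl ψ χ, hψD _⟩, rfl⟩ ⟨(1 : D) ⊗ₜ[k] ⟨x, hxD⟩, rfl⟩
    · rintro _ ⟨P, rfl⟩
      change HopfAlgebra.antipodeAlgHom k A (evalHom ψ x P) ∈ D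
      induction P using Polynomial.induction_on' with
      | add a b ha hb => rw [map_add, map_add]; exact add_mem ha hb
      | monomial n c =>
        rw [← C_mul_X_pow_eq_monomial, map_mul, map_mul, map_pow, map_pow, evalHom_C, evalHom_X]
        refine mul_mem ?_ (pow_mem ?_ n)
        · show HopfAlgebra.antipode k (ψ c) ∈ D
          rw [GrpSchLib.HopfGalois.antipode_bialgHom ψ c]
          exact hψD _
        · show HopfAlgebra.antipode k x ∈ D
          rw [hSx]
          exact neg_mem (mul_mem hxD (hψD _))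
  letI := GrpSchLib.SubHopf.hopf D hD
  haveI : Algebra.FiniteType k D :=
    (inferInstance : Algebra.FiniteType k (MonoidAlgebra k M)[X]).of_surjective _ (evalHom ψ x).rangeRestrict_surjective
  let j : D →ₐc[k] A := BialgHom.ofAlgHom D.val rfl (AlgHom.ext fun c => GrpSchLib.SubHopf.map_comulRes D hD c)
  haveI : Module.FaithfullyFlat D A :=
    RingHom.faithfullyFlat_algebraMap_iff.mp (GrpSchLib.HopfFlat.faithfullyFlat j Subtype.val_injective)
  refine ⟨Ideal.span {x}, GrpSchLib.isHopfIdeal_span_singleton hε ?_ ?_, ?_, fun b hb => ?_⟩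
  · rw [hSx]
    exact neg_mem (Ideal.mul_mem_right _ _ (Ideal.mem_span_singleton_self x))
  · have h0 : Ideal.Quotient.mkₐ k (Ideal.span ({x} : Set A)) x = 0 :=
      Ideal.Quotient.eq_zero_iff_mem.mpr (Ideal.mem_span_singleton_self x)
    rw [hx, map_add, Algebra.TensorProduct.map_tmul, Algebra.TensorProduct.map_tmul, h0, zero_tmul, tmul_zero, add_zero]
  · intro h
    exact hxR ⟨0, by rw [map_zero, Ideal.span_singleton_eq_bot.mp h]⟩
  · have hmem : (⟨ψ b, hψD b⟩ : D) ∈ ((Ideal.span {(⟨x, hxD⟩ : D)}).map (algebraMap D A)).comap (algebraMap D A) := by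
      rw [Ideal.mem_comap, Ideal.map_span, Set.image_singleton]
      exact hb
    rw [Ideal.comap_map_eq_self_of_faithfullyFlat, Ideal.mem_span_singleton'] at hmem
    obtain ⟨⟨_, P, rfl⟩, hu⟩ := hmem
    have hu' : evalHom ψ x P * x = ψ b := congrArg Subtype.val hu
    have h1 := coeff_zero_of_evalHom ψ hψ hJ hx hnorm (P * X - C b) (by
      rw [map_sub, map_mul, evalHom_X, evalHom_C, hu', sub_self])
    simpa using h1

end Groth.Agent.ExtUnipLib
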